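import Groth.Agent.L28.CurveCd.Main

/-!
Stalks of finite sums indexed by non-closed points.
-/

set_option autoImplicit false
set_option linter.style.haveILetI false
set_option linter.unusedSectionVars false
set_option backward.isDefEq.respectTransparency.types false

universe u

open CategoryTheory CategoryTheory.Limits AlgebraicGeometry Opposite

namespace Groth.L28.CurveCd

variable {X : Scheme.{u}} {ι : Type u} [Fintype ι]

theorem isAdditive_HF' (q : ℕ) : (EtCoh.HF X q).Additive := ⟨fun {A B} {a b} => by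
  refine AddCommGrpCat.ext fun e => ?_
  show _ = (EtCoh.HF X q).map a e + (EtCoh.HF X q).map b e
  rw [Groth.L27.EtSite.HF_map_apply, Groth.L27.EtSite.HF_map_apply,
    Groth.L27.EtSite.HF_map_apply, Abelian.Ext.mk₀_add, Abelian.Ext.comp_add]
  rfl⟩

theorem eq_zero_of_π (G : ι → EtCoh.Ab X) [HasBiproduct G] (q : ℕ) (z : EtCoh.H X (⨁ G) q)
    (hz : ∀ x, (EtCoh.HF X q).map (biproduct.π G x) z = 0) : z = 0 := by
  classical
  let e : ((⨁ G) ⟶ (⨁ G)) →+ EtCoh.H X (⨁ G) q :=
    AddMonoidHom.mk' (fun f => z.comp (Abelian.Ext.mk₀ f) (add_zero q)) fun a b => by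
      rw [Abelian.Ext.mk₀_add, Abelian.Ext.comp_add]
  have he : e (𝟙 (⨁ G)) = z := Abelian.Ext.comp_mk₀_id z
  refine he.symm.trans ?_
  refine (congrArg e (IsBilimit.total (biproduct.isBilimit G)).symm).trans ?_
  refine (map_sum e _ _).trans (Finset.sum_eq_zero fun x _ => ?_)
  show z.comp (Abelian.Ext.mk₀ (biproduct.π G x ≫ biproduct.ι G x)) (add_zero q) = 0
  rw [← Abelian.Ext.mk₀_comp_mk₀, ← Abelian.Ext.comp_assoc_of_second_deg_zero]
  refine (congrArg (fun y : EtCoh.H X (G x) q => Abelian.Ext.comp y (Abelian.Ext.mk₀ (biproduct.ι G x)) (add_zero q))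
    ((Groth.L27.EtSite.HF_map_apply _ q z).symm.trans (hz x))).trans ?_
  exact (map_zero (AddMonoidHom.mk' (fun y : EtCoh.H X (G x) q =>
      Abelian.Ext.comp y (Abelian.Ext.mk₀ (biproduct.ι G x)) (add_zero q))
    fun a b => Abelian.Ext.add_comp ..))


theorem isIso_stalk_biproduct_π (G : ι → EtCoh.Ab X) [HasBiproduct G] {Ω : Type u} [Field Ω] [IsSepClosed Ω]
    (ξ : Spec (CommRingCat.of Ω) ⟶ X) (x₀ : ι) (hother : ∀ x, x ≠ x₀ → IsZero ((EtCoh.stalk ξ).obj (G x))) :
    IsIso ((EtCoh.stalk ξ).map (biproduct.π G x₀)) := by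
  classical
  haveI : (EtCoh.stalk ξ).Additive :=
    haveI : PreservesColimitsOfSize.{0, 0} (EtCoh.stalk ξ) := inferInstance
    Functor.additive_of_preserves_binary_products _
  have hπι : (EtCoh.stalk ξ).map (biproduct.π G x₀) ≫ (EtCoh.stalk ξ).map (biproduct.ι G x₀) = 𝟙 _ := by
    rw [← Functor.map_comp, ← CategoryTheory.Functor.map_id, ← IsBilimit.total (biproduct.isBilimit G),
      Functor.map_sum, Finset.sum_eq_single x₀]
    · intro x _ hne
      rw [Functor.map_comp, (hother x hne).eq_of_tgt ((EtCoh.stalk ξ).map ((biproduct.bicone G).π x)) 0, zero_comp]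
    · exact fun h => absurd (Finset.mem_univ _) h
  exact ⟨(EtCoh.stalk ξ).map (biproduct.ι G x₀), hπι, by
    rw [← Functor.map_comp, biproduct.ι_π_self]
    exact CategoryTheory.Functor.map_id _ _⟩

theorem bijective_stalk_lift {F : EtCoh.Ab X} (G : ι → EtCoh.Ab X) [HasBiproduct G] (φ : ∀ x, F ⟶ G x)
    {Ω : Type u} [Field Ω] [IsSepClosed Ω] (ξ : Spec (CommRingCat.of Ω) ⟶ X) (x₀ : ι)
    (hother : ∀ x, x ≠ x₀ → IsZero ((EtCoh.stalk ξ).obj (G x)))
    (hb : Function.Bijective ((EtCoh.stalk ξ).map (φ x₀))) :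
    Function.Bijective ((EtCoh.stalk ξ).map (biproduct.lift φ)) := by
  haveI := isIso_stalk_biproduct_π G ξ x₀ hother
  haveI : IsIso ((EtCoh.stalk ξ).map (biproduct.lift φ) ≫ (EtCoh.stalk ξ).map (biproduct.π G x₀)) := by
    rw [← Functor.map_comp, biproduct.lift_π]
    exact (ConcreteCategory.isIso_iff_bijective _).2 hb
  haveI : IsIso ((EtCoh.stalk ξ).map (biproduct.lift φ)) :=
    IsIso.of_isIso_comp_right _ ((EtCoh.stalk ξ).map (biproduct.π G x₀))
  exact ConcreteCategory.bijective_of_isIso _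

end Groth.L28.CurveCd
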