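import Groth.Agent.L27.EtSite.PushStalk
import Groth.Agent.L27.StalkRpush.Ring
import Mathlib.AlgebraicGeometry.ResidueField
import Mathlib.AlgebraicGeometry.Morphisms.FlatMono
import Mathlib.AlgebraicGeometry.Morphisms.Preimmersion
import Mathlib.AlgebraicGeometry.Morphisms.Etale
import Mathlib.FieldTheory.PrimitiveElement
import Mathlib.RingTheory.Unramified.Field
import Mathlib.RingTheory.Etale.Field

/-!
The counit of a point of a scheme is an isomorphism.
-/

set_option autoImplicit false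
set_option linter.style.haveILetI false
set_option linter.unusedSectionVars false
set_option backward.isDefEq.respectTransparency.types false

universe u

open CategoryTheory CategoryTheory.Limits AlgebraicGeometry Opposite GrothendieckTopology IsLocalRing
open Groth.L27.EtSite

namespace Groth.L28.CurveCd

variable {X Y : Scheme.{u}} (f : X ⟶ Y) [IsPreimmersion f] {Ω : Type u} [Field Ω] [IsSepClosed Ω]
  (ξ : Spec (CommRingCat.of Ω) ⟶ X)

theorem exists_shrink (V : Y.Etale)
    (E : ((EtCoh.bc f).obj V).left.Opens) (y : (Scheme.pointSmallEtale ξ).fiber.obj ((EtCoh.bc f).obj V))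
    (hy : y.left.base (default : Spec (CommRingCat.of Ω)) ∈ E) :
    ∃ (V' : Y.Etale) (a : V' ⟶ V) (y' : (Scheme.pointSmallEtale ξ).fiber.obj ((EtCoh.bc f).obj V')),
      (Scheme.pointSmallEtale ξ).fiber.map ((EtCoh.bc f).map a) y' = y ∧
        Set.range ((EtCoh.bc f).map a).left ⊆ E := by
  let p : ((EtCoh.bc f).obj V).left ⟶ V.left := pullback.fst V.hom f
  have hpp : IsPreimmersion p := MorphismProperty.pullback_fst (P := @IsPreimmersion) V.hom f inferInstance
  obtain ⟨O', hO', hEO⟩ := p.isEmbedding.isInducing.isOpen_iff.1 E.2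
  let O : V.left.Opens := ⟨O', hO'⟩
  let V' : Y.Etale := Scheme.Etale.mk (O.ι ≫ V.hom)
  let a : V' ⟶ V := MorphismProperty.Over.homMk O.ι rfl
  haveI : IsOpenImmersion ((EtCoh.bc f).map a).left :=
    MorphismProperty.of_isPullback (P := @IsOpenImmersion) (EtCoh.isPullback_bc_map f a).flip
      (show IsOpenImmersion a.left from inferInstanceAs (IsOpenImmersion O.ι))
  have hO : p (y.left.base (default : Spec (CommRingCat.of Ω))) ∈ O :=
    (Set.ext_iff.1 hEO (y.left.base (default : Spec (CommRingCat.of Ω)))).2 hy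
  obtain ⟨x', hx'⟩ := exists_point_bc f a (y.left.base (default : Spec (CommRingCat.of Ω))) ⟨_, hO⟩ rfl
  have hr : Set.range y.left ⊆ Set.range ((EtCoh.bc f).map a).left := by
    rintro _ ⟨t, rfl⟩
    exact ⟨x', hx'.trans (congrArg y.left.base (Subsingleton.elim (α := Spec (CommRingCat.of Ω)) _ _))⟩
  let q : Spec (CommRingCat.of Ω) ⟶ ((EtCoh.bc f).obj V').left :=
    IsOpenImmersion.lift ((EtCoh.bc f).map a).left y.left hr
  have hq : q ≫ ((EtCoh.bc f).map a).left = y.left := IsOpenImmersion.lift_fac _ _ _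
  refine ⟨V', a, Over.homMk q ?_, ?_, ?_⟩
  · exact (congrArg (_ ≫ ·) (MorphismProperty.Over.w ((EtCoh.bc f).map a)).symm).trans
      ((Category.assoc _ _ _).symm.trans
        ((congrArg (· ≫ ((EtCoh.bc f).obj V).hom) hq).trans (Over.w y)))
  · exact Over.OverMorphism.ext hq
  · rintro _ ⟨z, rfl⟩
    have h1 : p (((EtCoh.bc f).map a).left z) = O.ι (pullback.fst V'.hom f z) :=
      (Scheme.Hom.comp_apply _ _ _).symm.trans ((congrArg (fun m : ((EtCoh.bc f).obj V').left ⟶ V.left => m z)
        (EtCoh.isPullback_bc_map f a).w).trans (Scheme.Hom.comp_apply _ _ _))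
    refine (Set.ext_iff.1 hEO _).1 ?_
    show p (((EtCoh.bc f).map a).left z) ∈ O
    rw [h1]
    exact (pullback.fst V'.hom f z).2

theorem exists_agree
    (U : X.Etale) (V : Y.Etale) (y : (Scheme.pointSmallEtale ξ).fiber.obj ((EtCoh.bc f).obj V))
    (g g' : (EtCoh.bc f).obj V ⟶ U)
    (h : (Scheme.pointSmallEtale ξ).fiber.map g y = (Scheme.pointSmallEtale ξ).fiber.map g' y) :
    ∃ (V' : Y.Etale) (a : V' ⟶ V) (y' : (Scheme.pointSmallEtale ξ).fiber.obj ((EtCoh.bc f).obj V')),
      (Scheme.pointSmallEtale ξ).fiber.map ((EtCoh.bc f).map a) y' = y ∧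
        (EtCoh.bc f).map a ≫ g = (EtCoh.bc f).map a ≫ g' := by
  haveI : AlgebraicGeometry.Etale U.hom := U.prop
  let l : ((EtCoh.bc f).obj V).left ⟶ pullback U.hom U.hom :=
    pullback.lift g.left g'.left ((MorphismProperty.Over.w g).trans (MorphismProperty.Over.w g').symm)
  let Δ : U.left ⟶ pullback U.hom U.hom := pullback.diagonal U.hom
  haveI : IsOpenImmersion Δ := inferInstanceAs (IsOpenImmersion (pullback.diagonal U.hom))
  have h' : y.left ≫ g.left = y.left ≫ g'.left := congrArg (fun q => q.left) h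
  have hl : y.left ≫ l = (y.left ≫ g.left) ≫ Δ := by
    apply pullback.hom_ext
    · exact ((Category.assoc _ _ _).trans (congrArg (y.left ≫ ·) (pullback.lift_fst _ _ _))).trans
        ((Category.assoc _ _ _).trans ((congrArg (_ ≫ ·) (pullback.diagonal_fst _)).trans (Category.comp_id _))).symm
    · exact (((Category.assoc _ _ _).trans (congrArg (y.left ≫ ·) (pullback.lift_snd _ _ _))).trans h'.symm).trans
        ((Category.assoc _ _ _).trans ((congrArg (_ ≫ ·) (pullback.diagonal_snd _)).trans (Category.comp_id _))).symm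
  obtain ⟨V', a, y', hy', hE⟩ := exists_shrink f ξ V (l ⁻¹ᵁ Δ.opensRange) y
    ⟨(y.left ≫ g.left) (default : Spec (CommRingCat.of Ω)), ((Scheme.Hom.comp_apply _ _ _).symm.trans
      ((congrArg (fun m : Spec (CommRingCat.of Ω) ⟶ pullback U.hom U.hom => m (default : Spec (CommRingCat.of Ω))) hl.symm).trans
        (Scheme.Hom.comp_apply _ _ _)))⟩
  refine ⟨V', a, y', hy', MorphismProperty.Over.Hom.ext ?_⟩
  let t : ((EtCoh.bc f).obj V').left ⟶ U.left :=
    IsOpenImmersion.lift Δ (((EtCoh.bc f).map a).left ≫ l) (by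
      rintro _ ⟨z, rfl⟩
      exact hE ⟨z, rfl⟩)
  have ht : t ≫ Δ = ((EtCoh.bc f).map a).left ≫ l := IsOpenImmersion.lift_fac _ _ _
  show ((EtCoh.bc f).map a).left ≫ g.left = ((EtCoh.bc f).map a).left ≫ g'.left
  have e1 : ((EtCoh.bc f).map a).left ≫ g.left = t :=
    ((congrArg (_ ≫ ·) (pullback.lift_fst _ _ _)).symm.trans ((Category.assoc _ _ _).symm.trans
      ((congrArg (· ≫ pullback.fst U.hom U.hom) ht.symm).trans ((Category.assoc _ _ _).trans
        ((congrArg (t ≫ ·) (pullback.diagonal_fst _)).trans (Category.comp_id _))))))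
  have e2 : ((EtCoh.bc f).map a).left ≫ g'.left = t :=
    ((congrArg (_ ≫ ·) (pullback.lift_snd _ _ _)).symm.trans ((Category.assoc _ _ _).symm.trans
      ((congrArg (· ≫ pullback.snd U.hom U.hom) ht.symm).trans ((Category.assoc _ _ _).trans
        ((congrArg (t ≫ ·) (pullback.diagonal_snd _)).trans (Category.comp_id _))))))
  exact e1.trans e2.symm

/-- homomorphisms out of a simple extension -/
theorem ringHom_ext_primitive {F K T : Type u} [Field F] [Field K] [Algebra F K] [FiniteDimensional F K]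
    [CommRing T] (α : K) (hα : IntermediateField.adjoin F {α} = ⊤) (a b : K →+* T)
    (hF : ∀ c, a (algebraMap F K c) = b (algebraMap F K c)) (ha : a α = b α) : a = b := by
  letI : Algebra F T := (a.comp (algebraMap F K)).toAlgebra
  let A : K →ₐ[F] T := { a with commutes' := fun c => rfl }
  let B : K →ₐ[F] T := { b with commutes' := fun c => (hF c).symm }
  have htop : Algebra.adjoin F ({α} : Set K) = ⊤ := by
    rw [← IntermediateField.adjoin_simple_toSubalgebra_of_isAlgebraic (Algebra.IsAlgebraic.isAlgebraic α), hα,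
      IntermediateField.top_toSubalgebra]
  have hAB : A = B := AlgHom.ext_of_adjoin_eq_top htop fun z hz => by rw [Set.mem_singleton_iff.1 hz]; exact ha
  exact congrArg AlgHom.toRingHom hAB

/-- a separable point of an étale scheme over a residue field -/
theorem exists_field_point {κ : Type u} [Field κ] (U : Scheme.{u}) (g : U ⟶ Spec (CommRingCat.of κ))
    [AlgebraicGeometry.Etale g] (y : Spec (CommRingCat.of Ω) ⟶ U) :
    ∃ (K : Type u) (_ : Field K) (_ : Algebra κ K) (_ : FiniteDimensional κ K) (_ : Algebra.IsSeparable κ K)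
      (h : Spec (CommRingCat.of K) ⟶ U) (σ : K →+* Ω),
      h ≫ g = Spec.map (CommRingCat.ofHom (algebraMap κ K)) ∧ Spec.map (CommRingCat.ofHom σ) ≫ h = y := by
  obtain ⟨_, ⟨(W : U.Opens), hW, rfl⟩, hyW, -⟩ :=
    U.isBasis_affineOpens.exists_subset_of_mem_open (Set.mem_univ (y.base default)) isOpen_univ
  let iW := hW.fromSpec
  obtain ⟨φ, hφ⟩ : ∃ φ : CommRingCat.of κ ⟶ Γ(U, W), Spec.map φ = iW ≫ g := Spec.map_surjective _
  letI : Algebra κ Γ(U, W) := φ.hom.toAlgebra
  haveI : Algebra.Etale κ Γ(U, W) := (HasRingHomProperty.Spec_iff (P := @AlgebraicGeometry.Etale)).1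
    (show AlgebraicGeometry.Etale (Spec.map φ) from hφ ▸ inferInstance)
  have hr : Set.range y ⊆ Set.range iW := by
    rintro _ ⟨t, rfl⟩
    rw [Subsingleton.elim (α := Spec (CommRingCat.of Ω)) t default]
    exact hW.range_fromSpec.ge hyW
  obtain ⟨r, hr'⟩ := Spec.map_surjective (IsOpenImmersion.lift iW y hr)
  haveI : Module.Finite κ Γ(U, W) := Algebra.FormallyUnramified.finite_of_free κ _
  haveI : IsArtinianRing Γ(U, W) := IsArtinianRing.of_finite κ _
  let I := RingHom.ker r.hom
  haveI : I.IsPrime := RingHom.ker_isPrime r.hom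
  haveI : I.IsMaximal := inferInstance
  letI : Field (Γ(U, W) ⧸ I) := Ideal.Quotient.field I
  haveI : Algebra.FormallyUnramified κ (Γ(U, W) ⧸ I) :=
    Algebra.FormallyUnramified.of_surjective (Ideal.Quotient.mkₐ κ I) (Ideal.Quotient.mkₐ_surjective κ I)
  haveI : Algebra.IsSeparable κ (Γ(U, W) ⧸ I) := Algebra.FormallyUnramified.isSeparable κ _
  refine ⟨Γ(U, W) ⧸ I, inferInstance, inferInstance, inferInstance, inferInstance,
    Spec.map (CommRingCat.ofHom (Ideal.Quotient.mk I)) ≫ iW, RingHom.kerLift r.hom, ?_, ?_⟩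
  · rw [Category.assoc, ← hφ, ← Spec.map_comp]
    rfl
  · rw [← Category.assoc, ← Spec.map_comp]
    refine Eq.trans ?_ (IsOpenImmersion.lift_fac iW y hr)
    rw [← hr']
    refine congrArg (· ≫ iW) (congrArg Spec.map ?_)
    exact CommRingCat.hom_ext (RingHom.ext fun a => RingHom.kerLift_mk r.hom a)


theorem exists_nbhd_into (x : Y) (ξ : Spec (CommRingCat.of Ω) ⟶ Spec (Y.residueField x))
    (U : (Spec (Y.residueField x)).Etale) (y : (Scheme.pointSmallEtale ξ).fiber.obj U) :
    ∃ (V : Y.Etale) (y' : (Scheme.pointSmallEtale ξ).fiber.obj ((EtCoh.bc (Y.fromSpecResidueField x)).obj V))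
      (g : (EtCoh.bc (Y.fromSpecResidueField x)).obj V ⟶ U), (Scheme.pointSmallEtale ξ).fiber.map g y' = y := by
  let j := Y.fromSpecResidueField x
  haveI : AlgebraicGeometry.Etale U.hom := U.prop
  obtain ⟨K, _, _, _, _, h, σ, hh, hσ⟩ := exists_field_point (κ := Y.residueField x) U.left U.hom y.left
  obtain ⟨_, ⟨(A : Y.Opens), hA, rfl⟩, hxA, -⟩ :=
    Y.isBasis_affineOpens.exists_subset_of_mem_open (Set.mem_univ x) isOpen_univ
  let O := Y.presheaf.stalk x
  letI : Algebra Γ(Y, A) O := (Y.presheaf.germ A x hxA).hom.toAlgebra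
  haveI := hA.isLocalization_stalk ⟨x, hxA⟩
  let p := (hA.primeIdealOf ⟨x, hxA⟩).asIdeal
  letI : Algebra (ResidueField O) K := inferInstanceAs (Algebra (Y.residueField x) K)
  haveI : Algebra.IsSeparable (ResidueField O) K := ‹Algebra.IsSeparable (Y.residueField x) K›
  let cB : Γ(Y, A) ⟶ CommRingCat.of K :=
    (Y.presheaf.germ A x hxA ≫ Y.residue x) ≫ CommRingCat.ofHom (algebraMap (Y.residueField x) K)
  letI : Algebra Γ(Y, A) K := cB.hom.toAlgebra
  obtain ⟨α, hα⟩ := Field.exists_primitive_element (Y.residueField x) K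
  obtain ⟨z, hz⟩ := Groth.L27.StalkRpush.ε_surjective Γ(Y, A) p O K (fun b => rfl) α
  obtain ⟨Xo, a, rfl⟩ := Groth.L05.Henselization.ι_surj z
  rw [Groth.L05.Henselization.ε_ι] at hz
  let toB : Spec (CommRingCat.of Xo.R) ⟶ Spec Γ(Y, A) :=
    Spec.map (CommRingCat.ofHom (algebraMap Γ(Y, A) Xo.R))
  haveI : AlgebraicGeometry.Etale toB :=
    (HasRingHomProperty.Spec_iff (P := @AlgebraicGeometry.Etale)).2 (RingHom.etale_algebraMap.2 inferInstance)
  let V : Y.Etale := Scheme.Etale.mk (toB ≫ hA.fromSpec)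
  let eK : Spec (CommRingCat.of K) ⟶ Spec (Y.residueField x) :=
    Spec.map (CommRingCat.ofHom (algebraMap (Y.residueField x) K))
  have hψ : Spec.map (CommRingCat.ofHom Xo.φ.toRingHom) ≫ toB ≫ hA.fromSpec = eK ≫ j := by
    rw [← Category.assoc, ← Spec.map_comp,
      show CommRingCat.ofHom (algebraMap Γ(Y, A) Xo.R) ≫ CommRingCat.ofHom Xo.φ.toRingHom = cB from
        CommRingCat.hom_ext (RingHom.ext fun b => Xo.φ.commutes b),
      Spec.map_comp, Spec.map_comp, Category.assoc, Category.assoc]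
    show eK ≫ Spec.map (Y.residue x) ≫ hA.fromSpecStalk hxA = _
    rw [hA.fromSpecStalk_eq_fromSpecStalk hxA]
    rfl
  let q : Spec (CommRingCat.of K) ⟶ ((EtCoh.bc j).obj V).left :=
    pullback.lift (Spec.map (CommRingCat.ofHom Xo.φ.toRingHom)) eK hψ
  let sn : ((EtCoh.bc j).obj V).left ⟶ Spec (Y.residueField x) := ((EtCoh.bc j).obj V).hom
  haveI : AlgebraicGeometry.Etale sn := ((EtCoh.bc j).obj V).prop
  have hq2 : q ≫ sn = eK := pullback.lift_snd _ _ _
  have hq1 : q ≫ pullback.fst V.hom j = Spec.map (CommRingCat.ofHom Xo.φ.toRingHom) := pullback.lift_fst _ _ _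
  haveI : Algebra.FormallyEtale (Y.residueField x) K := Algebra.FormallyEtale.of_isSeparable _ K
  haveI : Algebra.FinitePresentation (Y.residueField x) K := Algebra.FinitePresentation.of_finiteType.1 inferInstance
  haveI : Algebra.Etale (Y.residueField x) K := {}
  haveI : AlgebraicGeometry.Etale eK :=
    (HasRingHomProperty.Spec_iff (P := @AlgebraicGeometry.Etale)).2 (RingHom.etale_algebraMap.2 inferInstance)
  haveI : AlgebraicGeometry.Etale (q ≫ sn) := by rw [hq2]; infer_instance
  haveI : AlgebraicGeometry.Etale q := MorphismProperty.of_postcomp (W := @AlgebraicGeometry.Etale) (W' := @AlgebraicGeometry.Etale) q sn inferInstance inferInstance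
  haveI : Mono q := ⟨fun {T} m m' e => by
    refine ext_of_isAffine ?_
    have e1 : m ≫ Spec.map (CommRingCat.ofHom Xo.φ.toRingHom) = m' ≫ Spec.map (CommRingCat.ofHom Xo.φ.toRingHom) :=
      (congrArg (m ≫ ·) hq1).symm.trans ((Category.assoc _ _ _).symm.trans
        ((congrArg (· ≫ pullback.fst V.hom j) e).trans ((Category.assoc _ _ _).trans (congrArg (m' ≫ ·) hq1))))
    have e2 : m ≫ eK = m' ≫ eK :=
      (congrArg (m ≫ ·) hq2).symm.trans ((Category.assoc _ _ _).symm.trans
        ((congrArg (· ≫ sn) e).trans ((Category.assoc _ _ _).trans (congrArg (m' ≫ ·) hq2))))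
    have f1 := congrArg (fun k : T ⟶ _ => (Scheme.ΓSpecIso (CommRingCat.of Xo.R)).inv ≫ k.appTop) e1
    have f2 := congrArg (fun k : T ⟶ _ => (Scheme.ΓSpecIso (Y.residueField x)).inv ≫ k.appTop) e2
    simp only [Scheme.Hom.comp_appTop, eK] at f1 f2
    rw [← Scheme.ΓSpecIso_inv_naturality_assoc, ← Scheme.ΓSpecIso_inv_naturality_assoc] at f1 f2
    rw [← cancel_epi (Scheme.ΓSpecIso (CommRingCat.of K)).inv]
    refine CommRingCat.hom_ext (ringHom_ext_primitive α hα _ _ (fun c => ?_) ?_)
    · exact RingHom.congr_fun (congrArg CommRingCat.Hom.hom f2) c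
    · rw [← hz]
      exact RingHom.congr_fun (congrArg CommRingCat.Hom.hom f1) a⟩
  haveI : IsOpenImmersion q := IsOpenImmersion.of_flat_of_mono q
  let ξK : Spec (CommRingCat.of Ω) ⟶ Spec (CommRingCat.of K) := Spec.map (CommRingCat.ofHom σ)
  have hξK : ξK ≫ eK = ξ := (congrArg (ξK ≫ ·) hh).symm.trans
    (((Category.assoc _ _ _).symm.trans (congrArg (· ≫ U.hom) hσ)).trans (Over.w y))
  let y₁ : (Scheme.pointSmallEtale ξ).fiber.obj ((EtCoh.bc j).obj V) := Over.homMk (ξK ≫ q)
    ((Category.assoc _ _ _).trans ((congrArg (ξK ≫ ·) hq2).trans hξK))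
  obtain ⟨V', b, y', hy', hE⟩ := exists_shrink j ξ V q.opensRange y₁ ⟨_, (Scheme.Hom.comp_apply _ _ _).symm⟩
  let m : ((EtCoh.bc j).obj V').left ⟶ Spec (CommRingCat.of K) := IsOpenImmersion.lift q ((EtCoh.bc j).map b).left hE
  have hm : m ≫ q = ((EtCoh.bc j).map b).left := IsOpenImmersion.lift_fac _ _ _
  let g : (EtCoh.bc j).obj V' ⟶ U := MorphismProperty.Over.homMk (m ≫ h)
    ((Category.assoc _ _ _).trans ((congrArg (m ≫ ·) (hh.trans hq2.symm)).trans
      ((Category.assoc _ _ _).symm.trans ((congrArg (· ≫ sn) hm).trans (MorphismProperty.Over.w _)))))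
  refine ⟨V', y', g, Over.OverMorphism.ext ?_⟩
  have h1 : y'.left ≫ m = ξK := (cancel_mono q).1
    (((Category.assoc _ _ _).trans (congrArg (y'.left ≫ ·) hm)).trans (congrArg (fun k => k.left) hy'))
  exact ((Category.assoc _ _ _).symm.trans (congrArg (· ≫ h) h1)).trans hσ


theorem bijective_stalk_counit (x : Y) (ξ : Spec (CommRingCat.of Ω) ⟶ Spec (Y.residueField x))
    (F : EtCoh.Ab (Spec (Y.residueField x))) :
    Function.Bijective ((EtCoh.stalk ξ).map ((EtCoh.pullPushAdj (Y.fromSpecResidueField x)).counit.app F)) := by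
  let j := Y.fromSpecResidueField x
  haveI h1 : IsIso (stalkPush j ξ F) := by
    have := (ConcreteCategory.isIso_iff_bijective _).2 (bijective_comapPushDesc (Scheme.pointSmallEtale ξ)
      (EtCoh.bc j) (EtCoh.coverPreserving_bc j) AddCommGrpCat.{u + 1} (exists_nbhd_into x ξ)
      (exists_agree j ξ) F.obj)
    exact IsIso.comp_isIso' inferInstance this
  rw [stalk_counit]
  exact ConcreteCategory.bijective_of_isIso _

/-- pulling back undoes pushing from a point -/
theorem isIso_counit_point (x : Y) (F : EtCoh.Ab (Spec (Y.residueField x))) :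
    IsIso ((EtCoh.pullPushAdj (Y.fromSpecResidueField x)).counit.app F) := by
  haveI : Mono ((EtCoh.pullPushAdj (Y.fromSpecResidueField x)).counit.app F) :=
    (mono_iff_stalks _).2 fun Ω' _ _ ξ => (bijective_stalk_counit x ξ F).1
  haveI : Epi ((EtCoh.pullPushAdj (Y.fromSpecResidueField x)).counit.app F) :=
    (epi_iff_stalks _).2 fun Ω' _ _ ξ => (bijective_stalk_counit x ξ F).2
  exact isIso_of_mono_of_epi _

/-- the unit is bijective on stalks over the point -/
theorem bijective_stalk_unit (x : Y) (η : Spec (CommRingCat.of Ω) ⟶ Y) (hη : η.base default = x)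
    (F : EtCoh.Ab Y) :
    Function.Bijective ((EtCoh.stalk η).map ((EtCoh.pullPushAdj (Y.fromSpecResidueField x)).unit.app F)) := by
  let j := Y.fromSpecResidueField x
  obtain ⟨v, hv⟩ : ∃ v : Spec (CommRingCat.of Ω) ⟶ Spec (Y.residueField x), v ≫ j = η := by
    subst hη
    obtain ⟨⟨z, e⟩, rfl⟩ := (Scheme.SpecToEquivOfField Ω Y).symm.surjective η
    refine ⟨Spec.map ((Y.residueFieldCongr (by simp [Scheme.SpecToEquivOfField])).hom ≫ e), ?_⟩
    rw [Spec.map_comp, Category.assoc, Scheme.residueFieldCongr_fromSpecResidueField]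
    rfl
  subst hv
  haveI := isIso_counit_point x ((EtCoh.pull j).obj F)
  haveI hp : IsIso ((EtCoh.pull j).map ((EtCoh.pullPushAdj j).unit.app F)) :=
    (IsIso.eq_inv_of_inv_hom_id (g := (EtCoh.pull j).map ((EtCoh.pullPushAdj j).unit.app F))
      ((EtCoh.pullPushAdj j).left_triangle_components F)) ▸ inferInstance
  haveI : IsIso ((EtCoh.pull j ⋙ EtCoh.stalk v).map ((EtCoh.pullPushAdj j).unit.app F)) :=
    inferInstanceAs (IsIso ((EtCoh.stalk v).map ((EtCoh.pull j).map ((EtCoh.pullPushAdj j).unit.app F))))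
  haveI : IsIso ((EtCoh.stalk (v ≫ j)).map ((EtCoh.pullPushAdj j).unit.app F)) :=
    (NatIso.isIso_map_iff (Groth.L27.EtSite.stalkPullIso j v) _).1 ‹_›
  exact ConcreteCategory.bijective_of_isIso _

end Groth.L28.CurveCd
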