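import Groth.Agent.L28.Flasque.Rpush
import Groth.Agent.L28.EtTrace.Field
import Mathlib.RingTheory.Etale.Field
import Mathlib.AlgebraicGeometry.Limits
import Mathlib.GroupTheory.Torsion

/-!
Lifting multiples of sections over affine étale schemes over a field.
-/

set_option autoImplicit false
set_option linter.style.haveILetI false
set_option linter.unusedSectionVars false
set_option backward.isDefEq.respectTransparency.types false

universe u

open CategoryTheory CategoryTheory.Limits AlgebraicGeometry Opposite CategoryTheory.Abelian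

namespace Groth.L28.CurveCd

theorem isAddTorsion_field (E : Type u) [Field E] (G : EtCoh.Ab (Spec (CommRingCat.of E))) (q : ℕ) :
    IsAddTorsion (EtCoh.H (Spec (CommRingCat.of E)) G (q + 1)) := by
  intro a
  obtain ⟨L, _, _, _, _, hL⟩ := Groth.L28.EtTrace.exists_killing E q G a
  haveI := Groth.L27.EtSite.preservesFiniteLimits_pull (Groth.L28.EtTrace.specExt E L)
  exact isOfFinAddOrder_iff_nsmul_eq_zero.2 ⟨_, Module.finrank_pos (R := E) (M := L),
    Groth.L28.EtTrace.finrank_nsmul_eq_zero E L G (q + 1) a hL⟩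

/-- affine étale schemes over a field are disjoint unions of points -/
theorem exists_decomp (K : Type u) [Field K] (W : Scheme.{u}) [IsAffine W]
    (w : W ⟶ Spec (CommRingCat.of K)) [AlgebraicGeometry.Etale w] :
    ∃ (I : Type u) (_ : Finite I) (A : I → Type u) (_ : ∀ i, Field (A i))
      (c : ∀ i, Spec (CommRingCat.of (A i)) ⟶ W),
      (∀ i, IsOpenImmersion (c i)) ∧ (Pairwise fun i j => Disjoint (Set.range (c i)) (Set.range (c j))) ∧
        ∀ x : W, ∃ i y, c i y = x := by
  let φ : K →+* Γ(W, ⊤) := w.appTop.hom.comp (Scheme.ΓSpecIso (CommRingCat.of K)).inv.hom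
  letI := φ.toAlgebra
  haveI : Algebra.Etale K Γ(W, ⊤) :=
    RingHom.Etale.respectsIso.2 w.appTop.hom (Scheme.ΓSpecIso (CommRingCat.of K)).symm.commRingCatIsoToRingEquiv
      (HasRingHomProperty.appTop @AlgebraicGeometry.Etale w ‹_›)
  obtain ⟨I, hI, Ai, iF, _, e, hfs⟩ := (Algebra.Etale.iff_exists_algEquiv_prod K Γ(W, ⊤)).1 ‹_›
  let R : I → CommRingCat.{u} := fun i => CommRingCat.of (Ai i)
  let θ : Spec (CommRingCat.of (Π i, R i)) ≅ W :=
    Scheme.Spec.mapIso (e.toRingEquiv.toCommRingCatIso).op ≪≫ W.isoSpec.symm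
  let c : ∀ i, Spec (R i) ⟶ W := fun i => Spec.map (CommRingCat.ofHom (Pi.evalRingHom (R ·) i)) ≫ θ.hom
  refine ⟨I, hI, Ai, iF, c, fun i => inferInstance, fun i j hij => ?_, fun x => ?_⟩
  · refine Set.disjoint_left.2 ?_
    rintro _ ⟨a, rfl⟩ ⟨b, hb⟩
    have h1 : Spec.map (CommRingCat.ofHom (Pi.evalRingHom (R ·) i)) a =
        Spec.map (CommRingCat.ofHom (Pi.evalRingHom (R ·) j)) b := by
      refine θ.hom.homeomorph.injective ?_
      show θ.hom _ = θ.hom _
      rw [← Scheme.Hom.comp_apply, ← Scheme.Hom.comp_apply]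
      exact hb.symm
    classical
    have h2 : Pi.single i (1 : R i) ∈ (Spec.map (CommRingCat.ofHom (Pi.evalRingHom (R ·) j)) b).asIdeal := by
      show Pi.evalRingHom (R ·) j (Pi.single i 1) ∈ b.asIdeal
      rw [Pi.evalRingHom_apply, Pi.single_eq_of_ne (Ne.symm hij)]
      exact Ideal.zero_mem _
    rw [← h1] at h2
    have h3 : Pi.evalRingHom (R ·) i (Pi.single i 1) ∈ a.asIdeal := h2
    rw [Pi.evalRingHom_apply, Pi.single_eq_same] at h3
    exact a.isPrime.ne_top ((Ideal.eq_top_iff_one _).2 h3)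
  · haveI := hI
    obtain ⟨y, hy⟩ := (sigmaSpec R ≫ θ.hom).surjective x
    obtain ⟨i, z, hz⟩ : ∃ i z, Sigma.ι (fun i => Spec (R i)) i z = y := (sigmaOpenCover _).exists_eq y
    refine ⟨i, z, ?_⟩
    show c i z = x
    rw [← hy, ← hz, ← Scheme.Hom.comp_apply, ← Category.assoc, ι_sigmaSpec]

/-- multiples of sections lift when the first cohomology is torsion -/
theorem exists_nsmul_lift {X : Scheme.{u}} {E : ShortComplex (EtCoh.Ab X)} (hE : E.ShortExact) (U : X.Etale)
    (hU : IsAddTorsion (EtCoh.H U.left ((EtCoh.pull (X := U.left) (Y := X) U.hom).obj E.X₁) 1))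
    (q : E.X₃.obj.obj (op U)) : ∃ n : ℕ, 0 < n ∧ n • q ∈ Set.range (E.g.hom.app (op U)) := by
  let h : U.left ⟶ X := U.hom
  haveI : AlgebraicGeometry.Etale h := U.prop
  haveI := L27.ExtZero.jCont h
  let R := EtShriek.restrAlong h
  haveI : PreservesLimitsOfSize.{0, 0} R := (EtShriek.extZeroAdj h).rightAdjoint_preservesLimits
  haveI : PreservesColimitsOfSize.{0, 0} R := (L27.ExtZero.restrAdj h).leftAdjoint_preservesColimits
  haveI : PreservesFiniteLimits R := PreservesLimitsOfSize.preservesFiniteLimits _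
  haveI : PreservesFiniteColimits R := PreservesColimitsOfSize.preservesFiniteColimits _
  haveI : R.Additive := (L27.ExtZero.restrAdj h).left_adjoint_additive
  have hR := hE.map_of_exact R
  let T := (EtShriek.compEtale h).obj (EtCoh.top U.left)
  let m : T ⟶ U := MorphismProperty.Over.homMk (𝟙 U.left) rfl
  let m' : U ⟶ T := MorphismProperty.Over.homMk (𝟙 U.left)
    ((Category.id_comp (𝟙 U.left ≫ h)).trans (Category.id_comp _))
  let hT := EtCore.topIsTerminal U.left
  let z : EtCoh.H U.left (R.obj E.X₃) 0 := (Sheaf.H.equiv₀ (R.obj E.X₃) hT).symm (E.X₃.obj.map m.op q)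
  let e : R.obj E.X₁ ≅ (EtCoh.pull h).obj E.X₁ := ((L27.ExtZero.pullRestr h).app E.X₁).symm
  have hinj : Function.Injective (Sheaf.H.map e.hom 1) := fun a b hab => by
    have := congrArg (Sheaf.H.map e.inv 1) hab
    simpa [← Sheaf.H.map_comp_apply] using this
  obtain ⟨n, hn, hn0⟩ := isOfFinAddOrder_iff_nsmul_eq_zero.1 (hU (Sheaf.H.map e.hom 1 (z.comp hR.extClass (zero_add 1))))
  have hz : n • z.comp hR.extClass (zero_add 1) = 0 :=
    hinj (((map_nsmul (Sheaf.H.map e.hom 1) n _).trans hn0).trans (map_zero _).symm)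
  obtain ⟨y, hy⟩ := Ext.covariant_sequence_exact₃ _ hR (n • z) (zero_add 1) (by
    let pc : EtCoh.H U.left (R.obj E.X₃) 0 →+ EtCoh.H U.left (R.obj E.X₁) 1 :=
      AddMonoidHom.mk' (fun a => a.comp hR.extClass (zero_add 1)) fun a b => Ext.add_comp _ _ _ _
    exact ((map_nsmul pc n z).trans hz))
  refine ⟨n, hn, E.X₂.obj.map m'.op (Sheaf.H.equiv₀ (R.obj E.X₂) hT y), ?_⟩
  have ht : E.g.hom.app (op T) (Sheaf.H.equiv₀ (R.obj E.X₂) hT y) = n • E.X₃.obj.map m.op q := by
    refine (Sheaf.H.equiv₀_naturality (f := R.map E.g) (hT := hT) y).trans ?_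
    refine (congrArg (Sheaf.H.equiv₀ (R.obj E.X₃) hT) hy).trans ?_
    refine (map_nsmul _ n z).trans ?_
    exact congrArg (n • ·) (AddEquiv.apply_symm_apply _ _)
  refine (NatTrans.naturality_apply E.g.hom m'.op _).trans ?_
  refine (congrArg (E.X₃.obj.map m'.op) ht).trans ?_
  have hm : m' ≫ m = 𝟙 U := MorphismProperty.Over.Hom.ext (Category.id_comp _)
  refine (map_nsmul (E.X₃.obj.map m'.op).hom n _).trans (congrArg (n • ·) ?_)
  rw [L27.Colim.map_comp, hm, op_id, E.X₃.obj.map_id, ConcreteCategory.id_apply]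

/-- over a field, multiples of sections on affine étale schemes lift -/
theorem exists_nsmul_lift_field {K : Type u} [Field K] {E : ShortComplex (EtCoh.Ab (Spec (CommRingCat.of K)))}
    (hE : E.ShortExact) (U : (Spec (CommRingCat.of K)).Etale) [IsAffine U.left] (q : E.X₃.obj.obj (op U)) :
    ∃ n : ℕ, 0 < n ∧ n • q ∈ Set.range (E.g.hom.app (op U)) := by
  let h : U.left ⟶ Spec (CommRingCat.of K) := U.hom
  haveI : AlgebraicGeometry.Etale h := U.prop
  obtain ⟨I, hI, A, _, c, hci, hd, hcov⟩ := exists_decomp K U.left h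
  haveI := Fintype.ofFinite I
  let V : I → (Spec (CommRingCat.of K)).Etale := fun i => Scheme.Etale.mk (c i ≫ h)
  let g : ∀ i, V i ⟶ U := fun i => MorphismProperty.Over.homMk (c i) rfl
  haveI : ∀ i, IsOpenImmersion (g i).left := hci
  choose n hn t ht using fun i => exists_nsmul_lift hE (V i) (isAddTorsion_field (A i) _ 0) (E.X₃.obj.map (g i).op q)
  have hb : ∀ G : EtCoh.Ab (Spec (CommRingCat.of K)), Function.Bijective
      fun (a : G.obj.obj (op U)) (i : I) => G.obj.map (g i).op a := fun G =>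
    Groth.L27.EtSite.bijective_of_disjoint
      ((sheafCompose (Spec (CommRingCat.of K)).smallEtaleTopology (forget AddCommGrpCat.{u + 1})).obj G) V g hd hcov
  classical
  obtain ⟨s, hs⟩ := (hb E.X₂).2 fun i => ((∏ j ∈ Finset.univ.erase i, n j) • t i)
  refine ⟨∏ j, n j, Finset.prod_pos fun i _ => hn i, s, (hb E.X₃).1 (funext fun i => ?_)⟩
  show E.X₃.obj.map (g i).op (E.g.hom.app (op U) s) = E.X₃.obj.map (g i).op ((∏ j, n j) • q)
  rw [map_nsmul, ← Finset.prod_erase_mul _ _ (Finset.mem_univ i), mul_nsmul', ← ht i, ← map_nsmul]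
  exact (NatTrans.naturality_apply E.g.hom (g i).op s).symm.trans (congrArg (E.g.hom.app (op (V i))) (congrFun hs i))

end Groth.L28.CurveCd
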