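import Groth.Agent.L28.CurveCd.GenIso
import Groth.Agent.L28.CurveCd.PointPull
import Groth.Agent.L28.CurveCd.TorsionSections
import Groth.Agent.L28.GmH1.PointPush
import Groth.Agent.L27.Colim.Torsion
import Mathlib.AlgebraicGeometry.Morphisms.Affine
import Mathlib.Topology.NoetherianSpace

/-!
Cohomology above degree one of abelian sheaves on one-dimensional noetherian schemes is torsion.
-/

set_option autoImplicit false
set_option linter.style.haveILetI false
set_option linter.unusedSectionVars false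
set_option backward.isDefEq.respectTransparency.types false

universe u

open CategoryTheory CategoryTheory.Limits AlgebraicGeometry Opposite CategoryTheory.Abelian TopologicalSpace

namespace Groth.L28.CurveCd

/-- stalks of direct images vanish off the closure of the image -/
theorem isZero_stalk_push_closure' {X Y : Scheme.{u}} (f : X ⟶ Y) (F : EtCoh.Ab X) {Ω : Type u} [Field Ω]
    [IsSepClosed Ω] (η : Spec (CommRingCat.of Ω) ⟶ Y) (hη : η.base default ∉ closure (Set.range f.base)) :
    IsZero ((EtCoh.stalk η).obj ((EtCoh.push f).obj F)) := by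
  have : Subsingleton ((EtCoh.stalk η).obj ((EtCoh.push f).obj F)) := ⟨fun p q => by
    obtain ⟨V, y, s, t, rfl, rfl⟩ := (Scheme.pointSmallEtale η).toPresheafFiber_jointly_surjective₂ p q
    let O : V.left.Opens := V.hom ⁻¹ᵁ ⟨(closure (Set.range f.base))ᶜ, isClosed_closure.isOpen_compl⟩
    let V' : Y.Etale := Scheme.Etale.mk (O.ι ≫ V.hom)
    let a : V' ⟶ V := MorphismProperty.Over.homMk O.ι rfl
    haveI : IsOpenImmersion a.left := inferInstanceAs (IsOpenImmersion O.ι)
    obtain ⟨y', hy', -⟩ := Groth.L28.Sky.exists_fiber_lift η a y ⟨y.left.base (default : Spec (CommRingCat.of Ω)), by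
      show V.hom.base (y.left.base (default : Spec (CommRingCat.of Ω))) ∈ (closure (Set.range f.base))ᶜ
      rw [Groth.L27.EtSite.fiber_apply y]
      exact hη⟩ rfl
    haveI : IsEmpty ((EtCoh.bc f).obj V').left := ⟨fun z => (pullback.fst V'.hom f z).2 (subset_closure
      ⟨pullback.snd V'.hom f z, (Scheme.Hom.comp_apply _ _ _).symm.trans
        ((congrArg (fun m : pullback V'.hom f ⟶ Y => m z) pullback.condition.symm).trans
          (Scheme.Hom.comp_apply _ _ _))⟩)⟩
    refine ((Scheme.pointSmallEtale η).toPresheafFiber_eq_iff' _ _ _ _).2 ⟨V', a, y', hy', ?_⟩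
    exact (Groth.L27.EtSite.subsingleton_of_isEmpty ((sheafCompose X.smallEtaleTopology (forget AddCommGrpCat.{u + 1})).obj F)
      ((EtCoh.bc f).obj V')).elim _ _⟩
  exact AddCommGrpCat.isZero_of_subsingleton _

variable {X : Scheme.{u}}

theorem isAddTorsion_of_seq {A B C : AddCommGrpCat.{u + 1}} (a : A ⟶ B) (b : B ⟶ C)
    (h : ∀ x, b x = 0 → x ∈ Set.range a) (hA : IsAddTorsion A) (hC : IsAddTorsion C) : IsAddTorsion B := by
  intro x
  obtain ⟨n, hn, hn0⟩ := isOfFinAddOrder_iff_nsmul_eq_zero.1 (hC (b x))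
  obtain ⟨y, hy⟩ := h (n • x) ((map_nsmul b.hom n x).trans hn0)
  obtain ⟨m, hm, hm0⟩ := isOfFinAddOrder_iff_nsmul_eq_zero.1 (hA y)
  refine isOfFinAddOrder_iff_nsmul_eq_zero.2 ⟨n * m, Nat.mul_pos hn hm, ?_⟩
  rw [mul_nsmul, ← hy]
  exact (map_nsmul a.hom m y).symm.trans ((congrArg a hm0).trans (map_zero _))

theorem isAddTorsion_of_iso {A B : AddCommGrpCat.{u + 1}} (e : A ≅ B) (h : IsAddTorsion B) : IsAddTorsion A := by
  intro a
  obtain ⟨n, hn, hn0⟩ := isOfFinAddOrder_iff_nsmul_eq_zero.1 (h (e.hom a))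
  refine isOfFinAddOrder_iff_nsmul_eq_zero.2 ⟨n, hn, e.addCommGroupIsoToAddEquiv.injective ?_⟩
  rw [map_nsmul, map_zero]
  exact hn0

theorem torsion_middle {E : ShortComplex (EtCoh.Ab X)} (hE : E.ShortExact) (n : ℕ)
    (h1 : IsAddTorsion (EtCoh.H X E.X₁ n)) (h3 : IsAddTorsion (EtCoh.H X E.X₃ n)) :
    IsAddTorsion (EtCoh.H X E.X₂ n) := fun x => by
  refine isAddTorsion_of_seq ((EtCoh.HF X n).map E.f) ((EtCoh.HF X n).map E.g) (fun z hz => ?_) h1 h3 x
  obtain ⟨a, ha⟩ := Ext.covariant_sequence_exact₂ _ hE z ((Groth.L27.EtSite.HF_map_apply E.g n z).symm.trans hz)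
  exact ⟨a, (Groth.L27.EtSite.HF_map_apply E.f n a).trans ha⟩

theorem torsion_left {E : ShortComplex (EtCoh.Ab X)} (hE : E.ShortExact) (n : ℕ)
    (h3 : IsAddTorsion (EtCoh.H X E.X₃ n)) (h2 : IsAddTorsion (EtCoh.H X E.X₂ (n + 1))) :
    IsAddTorsion (EtCoh.H X E.X₁ (n + 1)) := fun x => by
  let d : (EtCoh.HF X n).obj E.X₃ ⟶ (EtCoh.HF X (n + 1)).obj E.X₁ := AddCommGrpCat.ofHom (Groth.L27.LimCoh.δH hE n)
  refine isAddTorsion_of_seq d ((EtCoh.HF X (n + 1)).map E.f) (fun z hz => ?_) h3 h2 x
  obtain ⟨a, ha⟩ := Ext.covariant_sequence_exact₁ _ hE z ((Groth.L27.EtSite.HF_map_apply E.f (n + 1) z).symm.trans hz) rfl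
  exact ⟨a, (Groth.L27.LimCoh.δH_apply hE n a).trans ha⟩

theorem isAffineHom_fromSpecResidueField (x : X) : IsAffineHom (X.fromSpecResidueField x) := ⟨fun W _ => by
  rcases isEmpty_or_nonempty (X.fromSpecResidueField x ⁻¹ᵁ W).toScheme with h | ⟨⟨p, hp⟩⟩
  · show IsAffine _
    infer_instance
  · rw [show X.fromSpecResidueField x ⁻¹ᵁ W = ⊤ from TopologicalSpace.Opens.ext (Set.eq_univ_of_forall fun q =>
      Subsingleton.elim (α := Spec (X.residueField x)) p q ▸ hp)]
    exact isAffineOpen_top _⟩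

/-- the cokernel of the direct image of an epimorphism from a point is torsion -/
theorem isTorsion_cokernel_push (x : X) {E : ShortComplex (EtCoh.Ab (Spec (X.residueField x)))} (hE : E.ShortExact) :
    EtCoh.IsTorsion (cokernel ((EtCoh.push (X.fromSpecResidueField x)).map E.g)) := by
  intro U s u
  let j := X.fromSpecResidueField x
  haveI := isAffineHom_fromSpecResidueField x
  let ψ := (EtCoh.push j).map E.g
  haveI : Sheaf.IsLocallySurjective (cokernel.π ψ) :=
    (Sheaf.isLocallySurjective_iff_epi' AddCommGrpCat.{u + 1} (cokernel.π ψ)).2 inferInstance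
  obtain ⟨V, g, v, hg, hv⟩ := (Groth.L27.EtSite.mem_topology_iff _).1 (Presheaf.imageSieve_mem X.smallEtaleTopology (cokernel.π ψ).hom s) u
  obtain ⟨t, ht⟩ := hg
  let hV : V.left ⟶ X := V.hom
  haveI : AlgebraicGeometry.Etale hV := V.prop
  obtain ⟨_, ⟨(O : V.left.Opens), hO, rfl⟩, hvO, -⟩ :=
    V.left.isBasis_affineOpens.exists_subset_of_mem_open (Set.mem_univ v) isOpen_univ
  let V' : X.Etale := Scheme.Etale.mk (O.ι ≫ hV)
  let a : V' ⟶ V := MorphismProperty.Over.homMk O.ι rfl
  let W := (EtCoh.bc j).obj V'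
  let v' : V'.left ⟶ X := V'.hom
  have hfst : IsAffineHom (pullback.fst v' j) := MorphismProperty.pullback_fst (P := @IsAffineHom) v' j inferInstance
  haveI : IsAffine W.left := @isAffine_of_isAffineHom _ _ (pullback.fst v' j) hfst hO
  obtain ⟨n, hn, b, hb⟩ := exists_nsmul_lift_field hE W (((EtCoh.push j).obj E.X₃).obj.map a.op t)
  refine ⟨V', a ≫ g, ⟨⟨v, hvO⟩, ?_⟩, isOfFinAddOrder_iff_nsmul_eq_zero.2 ⟨n, hn, ?_⟩⟩
  · exact (Scheme.Hom.comp_apply _ _ _).trans hv
  · rw [op_comp, Functor.map_comp_apply]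
    refine (congrArg (fun r => n • (cokernel ψ).obj.map a.op r) ht.symm).trans ?_
    refine (congrArg (n • ·) (NatTrans.naturality_apply (cokernel.π ψ).hom a.op t).symm).trans ?_
    refine (map_nsmul ((cokernel.π ψ).hom.app (op V')).hom n _).symm.trans ?_
    have hb' : ψ.hom.app (op V') b = n • ((EtCoh.push j).obj E.X₃).obj.map a.op t := hb
    rw [← hb']
    exact ConcreteCategory.congr_hom (congrArg (fun k => k.hom.app (op V')) (cokernel.condition ψ)) b

/-- higher cohomology of a direct image from a point is torsion -/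
theorem isAddTorsion_H_push [CompactSpace X] [QuasiSeparatedSpace X] (x : X) : ∀ (q : ℕ)
    (G : EtCoh.Ab (Spec (X.residueField x))),
    IsAddTorsion (EtCoh.H X ((EtCoh.push (X.fromSpecResidueField x)).obj G) (q + 1)) := by
  intro q
  induction q with
  | zero =>
    intro G a
    haveI := Groth.L27.EtSite.preservesFiniteLimits_pull (X.fromSpecResidueField x)
    obtain ⟨n, hn, hn0⟩ := isOfFinAddOrder_iff_nsmul_eq_zero.1
      (isAddTorsion_field (X.residueField x) G 0 (EtLim.HofPush (X.fromSpecResidueField x) G 1 a))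
    refine isOfFinAddOrder_iff_nsmul_eq_zero.2 ⟨n, hn, Groth.L28.GmH1.injective_HofPush_one _ G ?_⟩
    exact ((map_nsmul (EtLim.HofPush (X.fromSpecResidueField x) G 1) n a).trans hn0).trans (map_zero _).symm
  | succ q ih =>
    intro G
    let j := X.fromSpecResidueField x
    obtain ⟨E, hE, hI, rfl⟩ := Groth.L28.Supp.exists_presentation G
    haveI : PreservesLimitsOfSize.{0, 0} (EtCoh.push j) := (EtCoh.pullPushAdj j).rightAdjoint_preservesLimits
    haveI : PreservesFiniteLimits (EtCoh.push j) := PreservesLimitsOfSize.preservesFiniteLimits _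
    haveI : Injective ((EtCoh.push j).obj E.X₂) := Groth.L27.InjPush.injective_push j _
    let ψ := (EtCoh.push j).map E.g
    have hC : ∀ i, IsAddTorsion (EtCoh.H X (cokernel ψ) i) := fun i =>
      Groth.L27.Colim.isAddTorsion_H (cokernel ψ) (isTorsion_cokernel_push x hE) i
    let E₂ : ShortComplex (EtCoh.Ab X) := ShortComplex.mk (Abelian.image.ι ψ) (cokernel.π ψ) (kernel.condition _)
    have hE₂ : E₂.ShortExact :=
      { exact := ShortComplex.exact_of_f_is_kernel _ (kernelIsKernel _)
        mono_f := inferInstanceAs (Mono (Abelian.image.ι ψ))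
        epi_g := inferInstanceAs (Epi (cokernel.π ψ)) }
    have him : IsAddTorsion (EtCoh.H X (Abelian.image ψ) (q + 1)) := torsion_left hE₂ q (hC q) (ih E.X₃)
    let T : ShortComplex (EtCoh.Ab X) := ShortComplex.mk ((EtCoh.push j).map E.f) (Abelian.factorThruImage ψ) (by
      rw [← cancel_mono (Abelian.image.ι ψ), Category.assoc, Abelian.image.fac, zero_comp, ← Functor.map_comp, E.zero,
        Functor.map_zero])
    haveI := hE.mono_f
    haveI : Mono T.f := inferInstanceAs (Mono ((EtCoh.push j).map E.f))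
    haveI : Epi T.g := inferInstanceAs (Epi (Abelian.factorThruImage ψ))
    have hT : T.ShortExact :=
      { exact := by
          let T' : ShortComplex (EtCoh.Ab X) := ShortComplex.mk ((EtCoh.push j).map E.f) ψ
            (by rw [← Functor.map_comp, E.zero, Functor.map_zero])
          have hK : IsLimit (KernelFork.ofι T'.f T'.zero) :=
            KernelFork.mapIsLimit _ hE.fIsKernel (EtCoh.push j)
          refine ShortComplex.exact_of_f_is_kernel _ (KernelFork.IsLimit.ofι' _ T.zero fun {A} a ha =>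
            KernelFork.IsLimit.lift' hK a ?_)
          show a ≫ ψ = 0
          rw [← Abelian.image.fac ψ, ← Category.assoc, ha, zero_comp] }
    refine torsion_left hT (q + 1) him fun z => ?_
    rw [show z = 0 from Groth.L27.LimCoh.eq_zero_of_injective ((EtCoh.push j).obj E.X₂) (q + 1) z]
    exact IsOfFinAddOrder.zero

theorem isAddTorsion_sec [CompactSpace X] [QuasiSeparatedSpace X] {x : X} (hx : IsClosed ({x} : Set X))
    (F : EtCoh.Ab X) (q : ℕ) : IsAddTorsion (EtCoh.H X ((sec hx).obj F) (q + 1)) := by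
  let i := X.fromSpecResidueField x
  haveI : IsClosedImmersion i := isClosed_singleton_iff_isClosedImmersion.1 hx
  haveI : UniversallyInjective i := inferInstance
  haveI := (Groth.L27.EtSite.isIso_unit_iff i (Groth.L27.EtSite.propA_of_isIntegralHom i) ((sec hx).obj F)).2
    ((supp_sec hx F).trans (X.range_fromSpecResidueField x).ge)
  exact isAddTorsion_of_iso ((EtCoh.HF X (q + 1)).mapIso (asIso ((EtCoh.pullPushAdj i).unit.app ((sec hx).obj F))))
    (isAddTorsion_H_push x q _)

theorem HF_additive (X : Scheme.{u}) (q : ℕ) : (EtCoh.HF X q).Additive := ⟨fun {A B} {a b} => by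
  refine AddCommGrpCat.ext fun e => ?_
  show _ = (EtCoh.HF X q).map a e + (EtCoh.HF X q).map b e
  rw [Groth.L27.EtSite.HF_map_apply, Groth.L27.EtSite.HF_map_apply,
    Groth.L27.EtSite.HF_map_apply, Abelian.Ext.mk₀_add, Abelian.Ext.comp_add]
  rfl⟩

theorem isAddTorsion_obj_biproduct {C : Type*} [Category C] [Preadditive C] (G : C ⥤ AddCommGrpCat.{u + 1})
    [G.Additive] {β : Type*} [Fintype β] (F : β → C) [HasBiproduct F] (h : ∀ b, IsAddTorsion (G.obj (F b))) :
    IsAddTorsion (G.obj (⨁ F)) := by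
  intro a
  classical
  choose n hn hn0 using fun b => isOfFinAddOrder_iff_nsmul_eq_zero.1 (h b (G.map (biproduct.π F b) a))
  refine isOfFinAddOrder_iff_nsmul_eq_zero.2 ⟨∏ b, n b, Finset.prod_pos fun b _ => hn b, ?_⟩
  let ev : ((⨁ F) ⟶ (⨁ F)) →+ G.obj (⨁ F) :=
    AddMonoidHom.mk' (fun f => G.map f a) fun f g => ConcreteCategory.congr_hom (G.map_add (f := f) (g := g)) a
  have e : ev (𝟙 (⨁ F)) = a := ConcreteCategory.congr_hom (G.map_id (⨁ F)) a
  rw [← e, ← IsBilimit.total (biproduct.isBilimit F), map_sum, Finset.smul_sum]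
  refine Finset.sum_eq_zero fun b _ => ?_
  show (∏ b, n b) • G.map ((biproduct.bicone F).π b ≫ (biproduct.bicone F).ι b) a = 0
  rw [Functor.map_comp, ConcreteCategory.comp_apply, ← map_nsmul, ← Finset.prod_erase_mul _ _ (Finset.mem_univ b),
    mul_nsmul']
  exact (congrArg _ ((congrArg _ (hn0 b)).trans (nsmul_zero _))).trans (map_zero _)

theorem isAddTorsion_biproduct {β : Type*} [Fintype β] (F : β → EtCoh.Ab X) [HasBiproduct F] (q : ℕ)
    (h : ∀ b, IsAddTorsion (EtCoh.H X (F b) q)) : IsAddTorsion (EtCoh.H X (⨁ F) q) :=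
  haveI := HF_additive X q
  isAddTorsion_obj_biproduct (EtCoh.HF X q) F h

theorem isAddTorsion_coprod [CompactSpace X] [QuasiSeparatedSpace X] {α : Type u} (F : α → EtCoh.Ab X) (q : ℕ)
    (h : ∀ a, IsAddTorsion (EtCoh.H X (F a) q)) (c : Cofan F) (hc : IsColimit c) :
    IsAddTorsion (EtCoh.H X c.pt q) := by
  haveI := Groth.L27.Colim.preservesColimitsOfShape_HF X q (Finset (Discrete α))
  haveI : HasColimitsOfSize.{u, u} (EtCoh.Ab X) := hasColimitsOfSizeShrink.{u, u, u + 1, u + 1} _
  refine isAddTorsion_of_iso ((EtCoh.HF X q).mapIso (IsColimit.coconePointUniqueUpToIso hc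
    (CoproductsFromFiniteFiltered.liftToFinsetColimitCocone (Discrete.functor F)).isColimit)) ?_
  let D := CoproductsFromFiniteFiltered.liftToFinsetObj (Discrete.functor F)
  intro z
  obtain ⟨S, w, rfl⟩ := Concrete.isColimit_exists_rep _
    (isColimitOfPreserves (EtCoh.HF X q) (colimit.isColimit D)) z
  obtain ⟨n, hn, hn0⟩ := isOfFinAddOrder_iff_nsmul_eq_zero.1
    (isAddTorsion_of_iso ((EtCoh.HF X q).mapIso (biproduct.isoCoproduct fun x : (S : Finset (Discrete α)) => F x.1.as)).symm
      (isAddTorsion_biproduct (fun x : (S : Finset (Discrete α)) => F x.1.as) q (fun x => h x.1.as)) w)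
  refine isOfFinAddOrder_iff_nsmul_eq_zero.2 ⟨n, hn, ?_⟩
  refine ((map_nsmul (((EtCoh.HF X q).mapCocone (colimit.cocone D)).ι.app S).hom n w).symm.trans ?_)
  exact (congrArg _ hn0).trans (map_zero _)

theorem isAddTorsion_H_of_supp_closed [AlgebraicGeometry.IsNoetherian X] (F : EtCoh.Ab X)
    (hsupp : ∀ y ∈ EtPBC.supp F, IsClosed ({y} : Set X)) (q : ℕ) : IsAddTorsion (EtCoh.H X F (q + 1)) := by
  haveI : HasColimitsOfSize.{u, u} (EtCoh.Ab X) := hasColimitsOfSizeShrink.{u, u, u + 1, u + 1} _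
  let c : Cofan (fam F) := colimit.cocone _
  have hiso := isIso_desc F hsupp c (colimit.isColimit _)
  exact isAddTorsion_of_iso ((EtCoh.HF X (q + 1)).mapIso (@asIso _ _ _ _ _ hiso)).symm
    (isAddTorsion_coprod _ (q + 1) (fun x => isAddTorsion_sec x.2 F q) c (colimit.isColimit _))

/-- cohomology above degree one is torsion in dimension at most one -/
theorem isAddTorsion_H [AlgebraicGeometry.IsNoetherian X] (hdim : topologicalKrullDim X ≤ 1) (F : EtCoh.Ab X)
    (q : ℕ) : IsAddTorsion (EtCoh.H X F (q + 2)) := by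
  haveI : NoetherianSpace X := inferInstance
  haveI := (NoetherianSpace.finite_irreducibleComponents (α := X)).to_subtype
  let M := {x : X // ¬ IsClosed ({x} : Set X)}
  have hmem : ∀ x : M, closure ({x.1} : Set X) ∈ irreducibleComponents X := fun x => by
    refine ⟨isIrreducible_singleton.closure, fun T hT hsub => ?_⟩
    obtain ⟨η, hη⟩ := QuasiSober.sober hT.closure isClosed_closure
    have hηx : η ⤳ x.1 := hη.specializes (subset_closure (hsub (subset_closure rfl)))
    rw [((isClosed_or_maximal hdim x.1).resolve_left x.2) η hηx] at hη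
    exact hη.def.ge.trans' subset_closure
  haveI : Finite M := Finite.of_injective (fun x : M =>
    (⟨closure {x.1}, hmem x⟩ : irreducibleComponents X)) fun a b h => Subtype.ext
      (((specializes_iff_closure_subset.2 (congrArg Subtype.val h).ge).antisymm
        (specializes_iff_closure_subset.2 (congrArg Subtype.val h).le)).eq)
  haveI := Fintype.ofFinite M
  classical
  let gf : M → EtCoh.Ab X := fun x =>
    (EtCoh.push (X.fromSpecResidueField x.1)).obj ((EtCoh.pull (X.fromSpecResidueField x.1)).obj F)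
  haveI : HasBiproduct gf := HasBiproductsOfShape.has_biproduct _
  let φ : F ⟶ ⨁ gf := biproduct.lift fun x => (EtCoh.pullPushAdj (X.fromSpecResidueField x.1)).unit.app F
  have hstalk : ∀ (Ω : Type u) [Field Ω] [IsSepClosed Ω] (ξ : Spec (CommRingCat.of Ω) ⟶ X),
      ¬ IsClosed ({ξ.base default} : Set X) → Function.Bijective ((EtCoh.stalk ξ).map φ) := by
    intro Ω _ _ ξ hc
    let x₀ : M := ⟨_, hc⟩
    haveI : (EtCoh.stalk ξ).Additive :=
      haveI : PreservesColimitsOfSize.{0, 0} (EtCoh.stalk ξ) := inferInstance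
      Functor.additive_of_preserves_binary_products _
    have hother : ∀ x, x ≠ x₀ → IsZero ((EtCoh.stalk ξ).obj (gf x)) := fun x hne => by
      refine isZero_stalk_push_closure' _ _ ξ ?_
      rw [X.range_fromSpecResidueField x.1]
      exact fun h => hne (Subtype.ext (((isClosed_or_maximal hdim _).resolve_left hc) x.1
        (specializes_iff_mem_closure.2 h)))
    have hπι : (EtCoh.stalk ξ).map (biproduct.π gf x₀) ≫ (EtCoh.stalk ξ).map (biproduct.ι gf x₀) = 𝟙 _ := by
      rw [← Functor.map_comp, ← CategoryTheory.Functor.map_id, ← IsBilimit.total (biproduct.isBilimit gf),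
        Functor.map_sum, Finset.sum_eq_single x₀]
      · intro x _ hne
        rw [Functor.map_comp, (hother x hne).eq_of_tgt ((EtCoh.stalk ξ).map ((biproduct.bicone gf).π x)) 0, zero_comp]
      · exact fun h => absurd (Finset.mem_univ _) h
    haveI : IsIso ((EtCoh.stalk ξ).map (biproduct.π gf x₀)) :=
      ⟨(EtCoh.stalk ξ).map (biproduct.ι gf x₀), hπι, by
        rw [← Functor.map_comp, biproduct.ι_π_self]
        exact CategoryTheory.Functor.map_id _ _⟩
    haveI : IsIso ((EtCoh.stalk ξ).map φ ≫ (EtCoh.stalk ξ).map (biproduct.π gf x₀)) := by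
      rw [← Functor.map_comp, biproduct.lift_π]
      exact (ConcreteCategory.isIso_iff_bijective _).2 (bijective_stalk_unit x₀.1 ξ rfl F)
    haveI : IsIso ((EtCoh.stalk ξ).map φ) :=
      IsIso.of_isIso_comp_right _ ((EtCoh.stalk ξ).map (biproduct.π gf x₀))
    exact ConcreteCategory.bijective_of_isIso _
  have hs : ∀ K : EtCoh.Ab X, (∀ (Ω : Type u) [Field Ω] [IsSepClosed Ω] (ξ : Spec (CommRingCat.of Ω) ⟶ X),
      Function.Bijective ((EtCoh.stalk ξ).map φ) → IsZero ((EtCoh.stalk ξ).obj K)) →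
      ∀ y ∈ EtPBC.supp K, IsClosed ({y} : Set X) := by
    intro K hK y hy
    by_contra hc
    obtain ⟨Ω, _, _, ξ, hξ, hne⟩ := hy
    obtain rfl : ξ.base default = y := hξ.subset ⟨_, rfl⟩
    exact hne (hK Ω ξ (hstalk Ω ξ hc))
  have hK : ∀ i, IsAddTorsion (EtCoh.H X (kernel φ) (i + 1)) := isAddTorsion_H_of_supp_closed _
    (hs _ fun Ω _ _ ξ h => isZero_stalk_kernel φ ξ h.1)
  have hC : ∀ i, IsAddTorsion (EtCoh.H X (cokernel φ) (i + 1)) := isAddTorsion_H_of_supp_closed _
    (hs _ fun Ω _ _ ξ h => isZero_stalk_cokernel φ ξ h.2)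
  let E₂ : ShortComplex (EtCoh.Ab X) := ShortComplex.mk (Abelian.image.ι φ) (cokernel.π φ) (kernel.condition _)
  have hE₂ : E₂.ShortExact :=
    { exact := ShortComplex.exact_of_f_is_kernel _ (kernelIsKernel _)
      mono_f := inferInstanceAs (Mono (Abelian.image.ι φ))
      epi_g := inferInstanceAs (Epi (cokernel.π φ)) }
  have him : IsAddTorsion (EtCoh.H X (Abelian.image φ) (q + 2)) := torsion_left hE₂ (q + 1) (hC q)
    (isAddTorsion_biproduct gf (q + 2) fun x => isAddTorsion_H_push x.1 (q + 1) _)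
  let E₁ : ShortComplex (EtCoh.Ab X) := ShortComplex.mk (kernel.ι φ) (Abelian.factorThruImage φ)
    (by rw [← cancel_mono (Abelian.image.ι φ), Category.assoc, Abelian.image.fac, kernel.condition, zero_comp])
  haveI : Mono E₁.f := inferInstanceAs (Mono (kernel.ι φ))
  haveI : Epi E₁.g := inferInstanceAs (Epi (Abelian.factorThruImage φ))
  have hE₁ : E₁.ShortExact :=
    { exact := ShortComplex.exact_of_f_is_kernel _ (KernelFork.IsLimit.ofι' _ E₁.zero fun {A} a ha =>
        ⟨kernel.lift φ a (by rw [← Abelian.image.fac φ, ← Category.assoc, ha, zero_comp]), kernel.lift_ι _ _ _⟩) }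
  exact torsion_middle hE₁ (q + 2) (hK (q + 1)) him

end Groth.L28.CurveCd
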