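import Groth.Agent.L28.EtTrace.BrauerNorm
import Groth.Agent.L28.Flasque.Rpush
import Groth.Agent.S0208
import Groth.Agent.S0212
import Groth.Agent.L27.EtSite.Points
import Groth.Agent.L27.EtSite.PushStalk
import Mathlib.RingTheory.Etale.Field
import Mathlib.AlgebraicGeometry.Limits

/-!
Vanishing in degrees at least two on affine étale schemes over a field.
-/

set_option autoImplicit false
set_option linter.style.haveILetI false
set_option linter.unusedSectionVars false
set_option backward.isDefEq.respectTransparency.types false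

universe u

open CategoryTheory CategoryTheory.Limits AlgebraicGeometry Opposite

namespace Groth.L28.CurveCd

theorem isTorsion_pull {X Y : Scheme.{u}} (f : Y ⟶ X) {F : EtCoh.Ab X} (hF : EtCoh.IsTorsion F) :
    EtCoh.IsTorsion ((EtCoh.pull f).obj F) := by
  intro U s u
  obtain ⟨Ω, _, _, η, hη⟩ := Groth.L27.EtSite.exists_geometric_point (U.hom.base u)
  obtain ⟨y, hy⟩ := Groth.L27.EtSite.exists_fiber η U u hη.symm
  let z : (EtCoh.stalk η).obj ((EtCoh.pull f).obj F) :=
    (Scheme.pointSmallEtale η).toPresheafFiber U y ((EtCoh.pull f).obj F).obj s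
  have hfin : IsOfFinAddOrder z := by
    let e := ((Groth.L27.EtSite.stalkPullIso f η).app F).addCommGroupIsoToAddEquiv
    obtain ⟨V, x, t, ht⟩ := (Scheme.pointSmallEtale (η ≫ f)).toPresheafFiber_jointly_surjective (P := F.obj) (e z)
    obtain ⟨W, g, ⟨w, hw⟩, hg⟩ := hF V t (x.left.base (default : Spec (CommRingCat.of Ω)))
    obtain ⟨n, hn, hn0⟩ := isOfFinAddOrder_iff_nsmul_eq_zero.1 hg
    refine isOfFinAddOrder_iff_nsmul_eq_zero.2 ⟨n, hn, ?_⟩
    let Wx : Scheme.Etale V.left := @Scheme.Etale.mk _ _ g.left (Groth.L27.EtSite.etale_left g)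
    obtain ⟨x', hx'⟩ := Groth.L27.EtSite.exists_fiber x.left Wx w hw
    let xW : (Scheme.pointSmallEtale (η ≫ f)).fiber.obj W := Over.homMk x'.left
      ((congrArg (x'.left ≫ ·) (MorphismProperty.Over.w g).symm).trans
        ((Category.assoc _ _ _).symm.trans ((congrArg (· ≫ V.hom) (Over.w x')).trans (Over.w x))))
    have hxW : (Scheme.pointSmallEtale (η ≫ f)).fiber.map g xW = x := Over.OverMorphism.ext (Over.w x')
    refine e.injective ?_
    rw [map_nsmul, map_zero, ← ht, ← hxW]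
    refine (map_nsmul ((Scheme.pointSmallEtale (η ≫ f)).toPresheafFiber V _ F.obj).hom n t).symm.trans ?_
    refine ((Scheme.pointSmallEtale (η ≫ f)).toPresheafFiber_w_apply g xW F.obj (n • t)).symm.trans ?_
    rw [map_nsmul, hn0, map_zero]
    rfl
  obtain ⟨n, hn, hn0⟩ := isOfFinAddOrder_iff_nsmul_eq_zero.1 hfin
  obtain ⟨W, g, y', hy', he⟩ := ((Scheme.pointSmallEtale η).toPresheafFiber_eq_iff' U y (n • s) 0).1
    (((map_nsmul _ n s).trans hn0).trans (map_zero _).symm)
  refine ⟨W, g, ⟨y'.left.base (default : Spec (CommRingCat.of Ω)), by rw [← hy, ← hy']; rfl⟩,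
    isOfFinAddOrder_iff_nsmul_eq_zero.2 ⟨n, hn, ?_⟩⟩
  rw [← map_nsmul]
  exact he.trans (map_zero _)

/-- dimension shifting -/
theorem subsingleton_of_quot {X : Scheme.{u}} {E : ShortComplex (EtCoh.Ab X)} (hE : E.ShortExact) [Injective E.X₂]
    (q : ℕ) (h : Subsingleton (EtCoh.H X E.X₃ (q + 1))) : Subsingleton (EtCoh.H X E.X₁ (q + 2)) := by
  refine subsingleton_of_forall_eq 0 fun x => ?_
  obtain ⟨y, rfl⟩ := Groth.L27.LimCoh.exists_δH hE (q + 1) x (Groth.L27.LimCoh.eq_zero_of_injective E.X₂ (q + 1) _)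
  rw [@Subsingleton.elim (EtCoh.H X E.X₃ (q + 1)) h y 0]
  exact map_zero _

theorem acycAt_X₃_of_two {X : Scheme.{u}} {E : ShortComplex (EtCoh.Ab X)} (hE : E.ShortExact) [Injective E.X₂]
    (W : X.Etale)
    (hF : ∀ q, Subsingleton (EtCoh.H W.left ((EtCoh.pull (X := W.left) (Y := X) W.hom).obj E.X₁) (q + 2))) :
    Groth.L28.Flasque.AcycAt W E.X₃ := by
  intro q hq
  let h : W.left ⟶ X := W.hom
  haveI : AlgebraicGeometry.Etale h := W.prop
  haveI := Groth.L27.ExtZero.jCont h
  haveI := Groth.L27.EtSite.preservesFiniteLimits_pull h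
  haveI : Injective (E.map (EtCoh.pull h)).X₂ := Groth.L27.ExtZero.injective_pull h E.X₂
  obtain ⟨q, rfl⟩ : ∃ j, q = j + 1 := ⟨q - 1, by omega⟩
  haveI := hF q
  refine subsingleton_of_forall_eq 0 fun x => ?_
  obtain ⟨z, hz⟩ := Groth.L27.LimCoh.exists_map_of_δH_eq_zero (hE.map_of_exact (EtCoh.pull h)) (q + 1) x
    (Subsingleton.elim (α := EtCoh.H W.left ((EtCoh.pull h).obj E.X₁) (q + 2)) _ _)
  rw [← hz, Groth.L27.LimCoh.eq_zero_of_injective _ q z]
  exact map_zero ((EtCoh.HF W.left (q + 1)).map (E.map (EtCoh.pull h)).g).hom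

/-- degrees at least two on affine étale schemes over a field -/
theorem subsingleton_etale_of (P : ∀ {W : Scheme.{u}}, EtCoh.Ab W → Prop)
    (hP : ∀ {W W' : Scheme.{u}} (g : W' ⟶ W) {G : EtCoh.Ab W}, P G → P ((EtCoh.pull g).obj G))
    (K : Type u) [Field K]
    (hK : ∀ (E : Type u) [Field E] [Algebra K E] [FiniteDimensional K E] [Algebra.IsSeparable K E]
      (G : EtCoh.Ab (Spec (CommRingCat.of E))), P G →
      ∀ q : ℕ, Subsingleton (EtCoh.H (Spec (CommRingCat.of E)) G (q + 2)))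
    (W : Scheme.{u}) [IsAffine W] (w : W ⟶ Spec (CommRingCat.of K)) [AlgebraicGeometry.Etale w]
    (G : EtCoh.Ab W) (hG : P G) (q : ℕ) :
    Subsingleton (EtCoh.H W G (q + 2)) := by
  let φ : K →+* Γ(W, ⊤) := w.appTop.hom.comp (Scheme.ΓSpecIso (CommRingCat.of K)).inv.hom
  letI := φ.toAlgebra
  haveI : Algebra.Etale K Γ(W, ⊤) :=
    RingHom.Etale.respectsIso.2 w.appTop.hom (Scheme.ΓSpecIso (CommRingCat.of K)).symm.commRingCatIsoToRingEquiv
      (HasRingHomProperty.appTop @AlgebraicGeometry.Etale w ‹_›)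
  obtain ⟨I, _, Ai, _, _, e, hfs⟩ := (Algebra.Etale.iff_exists_algEquiv_prod K Γ(W, ⊤)).1 ‹_›
  let R : I → CommRingCat.{u} := fun i => CommRingCat.of (Ai i)
  let θ : Spec (CommRingCat.of (Π i, R i)) ≅ W :=
    Scheme.Spec.mapIso (e.toRingEquiv.toCommRingCatIso).op ≪≫ W.isoSpec.symm
  let c : ∀ i, Spec (R i) ⟶ W := fun i => Spec.map (CommRingCat.ofHom (Pi.evalRingHom (R ·) i)) ≫ θ.hom
  haveI : ∀ i, IsOpenImmersion (c i) := fun i => inferInstance
  let V : I → W.Etale := fun i => Scheme.Etale.mk (c i)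
  haveI : ∀ i, IsOpenImmersion (V i).hom := fun i => inferInstanceAs (IsOpenImmersion (c i))
  have hd : Pairwise fun i j => Disjoint (Set.range (V i).hom) (Set.range (V j).hom) := fun i j hij => by
    refine Set.disjoint_left.2 ?_
    rintro _ ⟨a, rfl⟩ ⟨b, hb⟩
    have h1 : Spec.map (CommRingCat.ofHom (Pi.evalRingHom (R ·) i)) a =
        Spec.map (CommRingCat.ofHom (Pi.evalRingHom (R ·) j)) b := by
      refine θ.hom.homeomorph.injective ?_
      show θ.hom _ = θ.hom _
      rw [← Scheme.Hom.comp_apply, ← Scheme.Hom.comp_apply]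
      exact hb.symm
    classical
    have h2 : Pi.single i (1 : R i) ∈ (Spec.map (CommRingCat.ofHom (Pi.evalRingHom (R ·) j)) b).asIdeal := by
      show Pi.evalRingHom (R ·) j (Pi.single i 1) ∈ b.asIdeal
      rw [Pi.evalRingHom_apply, Pi.single_eq_of_ne (Ne.symm hij)]
      exact Ideal.zero_mem _
    rw [← h1] at h2
    have h3 : Pi.evalRingHom (R ·) i (Pi.single i 1) ∈ a.asIdeal := h2
    rw [Pi.evalRingHom_apply, Pi.single_eq_same] at h3
    exact a.isPrime.ne_top ((Ideal.eq_top_iff_one _).2 h3)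
  have hc : ∀ x : W, ∃ i y, (V i).hom y = x := fun x => by
    obtain ⟨y, hy⟩ := (sigmaSpec R ≫ θ.hom).surjective x
    obtain ⟨i, z, hz⟩ : ∃ i z, Sigma.ι (fun i => Spec (R i)) i z = y := (sigmaOpenCover _).exists_eq y
    refine ⟨i, z, ?_⟩
    show c i z = x
    rw [← hy, ← hz, ← Scheme.Hom.comp_apply, ← Category.assoc, ι_sigmaSpec]
  obtain ⟨E, hE, hI, rfl⟩ := Groth.L28.Supp.exists_presentation G
  refine subsingleton_of_quot hE q (Groth.L28.Flasque.subsingleton_H_disjoint V hd hc q E.X₃ fun i =>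
    acycAt_X₃_of_two hE (V i) fun r => ?_)
  haveI := (hfs i).1
  haveI := (hfs i).2
  exact hK (Ai i) _ (hP (c i) hG) r

/-- degrees at least two on affine étale schemes over a field, for torsion sheaves -/
theorem subsingleton_etale (K : Type u) [Field K]
    (hK : ∀ (E : Type u) [Field E] [Algebra K E] [FiniteDimensional K E] [Algebra.IsSeparable K E]
      (G : EtCoh.Ab (Spec (CommRingCat.of E))), EtCoh.IsTorsion G →
      ∀ q : ℕ, Subsingleton (EtCoh.H (Spec (CommRingCat.of E)) G (q + 2)))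
    (W : Scheme.{u}) [IsAffine W] (w : W ⟶ Spec (CommRingCat.of K)) [AlgebraicGeometry.Etale w]
    (G : EtCoh.Ab W) (hG : EtCoh.IsTorsion G) (q : ℕ) :
    Subsingleton (EtCoh.H W G (q + 2)) :=
  subsingleton_etale_of EtCoh.IsTorsion (fun g _ h => isTorsion_pull g h) K hK W w G hG q

/-- torsion sheaves over fields of transcendence degree one -/
theorem subsingleton_torsion_etale (k : Type u) [Field k] [IsAlgClosed k] (K : Type u) [Field K] [Algebra k K]
    (hK : Algebra.trdeg k K = 1) (W : Scheme.{u}) [IsAffine W] (w : W ⟶ Spec (CommRingCat.of K))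
    [AlgebraicGeometry.Etale w] (G : EtCoh.Ab W) (hG : EtCoh.IsTorsion G) (q : ℕ) :
    Subsingleton (EtCoh.H W G (q + 2)) := by
  refine subsingleton_etale K (fun E _ _ _ _ G hG q => ?_) W w G hG q
  refine Groth.Agent.S0208.result E (fun K' _ _ _ D _ _ _ _ => ?_) G hG (q + 2) (by omega)
  letI : Algebra k E := ((algebraMap K E).comp (algebraMap k K)).toAlgebra
  haveI : IsScalarTower k K E := IsScalarTower.of_algebraMap_eq' rfl
  letI : Algebra k K' := ((algebraMap E K').comp (algebraMap k E)).toAlgebra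
  haveI : IsScalarTower k E K' := IsScalarTower.of_algebraMap_eq' rfl
  exact Groth.L28.EtTrace.brTrivial_of_isCi (Groth.Agent.S0212.result k K' 1 (by
    exact_mod_cast Groth.L28.EtTrace.trdeg_finite_ext k E (Groth.L28.EtTrace.trdeg_finite_ext k K hK E) K')) D

end Groth.L28.CurveCd
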