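import Groth.Agent.L28.CurveCd.Points
import Mathlib.AlgebraicGeometry.Noetherian
import Mathlib.AlgebraicGeometry.Morphisms.FiniteType

/-!
Acyclicity of sheaves supported at closed points.
-/

set_option autoImplicit false
set_option linter.style.haveILetI false
set_option linter.unusedSectionVars false
set_option backward.isDefEq.respectTransparency.types false

universe u

open CategoryTheory CategoryTheory.Limits AlgebraicGeometry Opposite Topology TopologicalSpace
open Groth.L27.Supp (ZeroAt)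
open Groth.L28.Sky

namespace Groth.L28.CurveCd

variable {X : Scheme.{u}}

theorem isClosed_fiber_point {U : X.Etale} (w : U.left) (hw : IsClosed ({U.hom.base w} : Set X))
    [CompactSpace U.left] [IsLocallyNoetherian X] : IsClosed ({w} : Set U.left) := by
  let h : U.left ⟶ X := U.hom
  haveI : AlgebraicGeometry.Etale h := U.prop
  refine closure_subset_iff_isClosed.1 fun w' hw' => ?_
  have hs : w ⤳ w' := specializes_iff_mem_closure.2 hw'
  have he : h w' = h w := by
    have hm : h w' ∈ closure ({h w} : Set X) := specializes_iff_mem_closure.1 (hs.map h.continuous)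
    rwa [hw.closure_eq, Set.mem_singleton_iff] at hm
  haveI : LocallyQuasiFinite h := inferInstance
  have hd : DiscreteTopology ↥(h.fiber (h w)) := inferInstance
  obtain ⟨a, ha⟩ : w ∈ Set.range (h.fiberι (h w)) := by rw [Scheme.Hom.range_fiberι]; rfl
  obtain ⟨b, hb⟩ : w' ∈ Set.range (h.fiberι (h w)) := by rw [Scheme.Hom.range_fiberι]; exact he
  have hab : a ⤳ b := ((h.fiberι (h w)).isEmbedding.isInducing.specializes_iff).1 (by rw [ha, hb]; exact hs)
  exact hb.symm.trans ((congrArg (h.fiberι (h w)) hab.eq.symm).trans ha)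

theorem finite_notZeroAt [IsLocallyNoetherian X] (F : EtCoh.Ab X)
    (hsupp : ∀ y ∈ EtPBC.supp F, IsClosed ({y} : Set X)) (U : X.Etale) [CompactSpace U.left]
    (s : F.obj.obj (op U)) : {w : U.left | ¬ ZeroAt F s w}.Finite ∧
      ∀ w : U.left, ¬ ZeroAt F s w → IsClosed ({w} : Set U.left) := by
  let h : U.left ⟶ X := U.hom
  haveI : AlgebraicGeometry.Etale h := U.prop
  haveI : IsLocallyNoetherian U.left := LocallyOfFiniteType.isLocallyNoetherian h
  haveI : AlgebraicGeometry.IsNoetherian U.left := {}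
  have hcl : ∀ w : U.left, ¬ ZeroAt F s w → IsClosed ({w} : Set U.left) := fun w hw =>
    isClosed_fiber_point w (hsupp _ (not_not.1 fun hn =>
      hw (Groth.L28.Supp.zeroAt_of_stalk_zero F _ hn U s w rfl)))
  refine ⟨Groth.L18.Curve.finite_of_forall_isClosed ?_ hcl, hcl⟩
  exact (Groth.L28.Supp.isOpen_zeroAt F U s).isClosed_compl

/-- the family of sections supported at single closed points -/
noncomputable def fam (F : EtCoh.Ab X) (x : {x : ↥X // IsClosed ({x} : Set ↥X)}) : EtCoh.Ab X := (sec x.2).obj F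

theorem exists_germ_lift [IsLocallyNoetherian X] (F : EtCoh.Ab X)
    (hsupp : ∀ y ∈ EtPBC.supp F, IsClosed ({y} : Set X)) {Ω : Type u} [Field Ω] [IsSepClosed Ω]
    (ξ : Spec (CommRingCat.of Ω) ⟶ X) (hx : IsClosed ({ξ.base default} : Set X))
    (z : (EtCoh.stalk ξ).obj F) : z ∈ Set.range ((EtCoh.stalk ξ).map (incl hx F)) := by
  obtain ⟨U, y, s, rfl⟩ := (Scheme.pointSmallEtale ξ).toPresheafFiber_jointly_surjective z
  let h : U.left ⟶ X := U.hom
  haveI : AlgebraicGeometry.Etale h := U.prop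
  let w₀ := y.left.base (default : Spec (CommRingCat.of Ω))
  obtain ⟨_, ⟨(A : U.left.Opens), hA, rfl⟩, hwA, -⟩ :=
    U.left.isBasis_affineOpens.exists_subset_of_mem_open (Set.mem_univ w₀) isOpen_univ
  let UA : X.Etale := Scheme.Etale.mk (A.ι ≫ h)
  let gA : UA ⟶ U := MorphismProperty.Over.homMk A.ι rfl
  haveI : IsOpenImmersion gA.left := inferInstanceAs (IsOpenImmersion A.ι)
  haveI : CompactSpace UA.left := isCompact_iff_compactSpace.mp hA.isCompact
  let sA := F.obj.map gA.op s
  obtain ⟨hfin, hclw⟩ := finite_notZeroAt F hsupp UA sA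
  let T : Set UA.left := {w | ¬ ZeroAt F sA w ∧ UA.hom.base w ≠ ξ.base default}
  have hT : IsClosed T := by
    rw [← Set.biUnion_of_singleton T]
    exact (hfin.subset fun w hw => hw.1).isClosed_biUnion fun w hw => hclw w hw.1
  let O : UA.left.Opens := ⟨Tᶜ, hT.isOpen_compl⟩
  let hUA : UA.left ⟶ X := UA.hom
  haveI : AlgebraicGeometry.Etale hUA := UA.prop
  let V : X.Etale := Scheme.Etale.mk (O.ι ≫ hUA)
  let gO : V ⟶ UA := MorphismProperty.Over.homMk O.ι rfl
  haveI : IsOpenImmersion gO.left := inferInstanceAs (IsOpenImmersion O.ι)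
  obtain ⟨t, ht⟩ := exists_incl_eq hx F V (F.obj.map gO.op sA) fun w hw =>
    ZeroAt.map F gO (not_not.1 fun hn => w.2 ⟨hn, by
      intro e
      exact hw ((Scheme.Hom.comp_apply _ _ _).trans e)⟩)
  obtain ⟨yA, hyA, hyA'⟩ := exists_fiber_lift ξ gA y ⟨w₀, hwA⟩ rfl
  have hmem : yA.left.base (default : Spec (CommRingCat.of Ω)) ∈ O := fun ⟨_, hn⟩ =>
    hn (Groth.L27.EtSite.fiber_apply yA)
  obtain ⟨yV, hyV, -⟩ := exists_fiber_lift ξ gO yA ⟨_, hmem⟩ rfl
  refine ⟨germ ξ V yV t, ?_⟩
  rw [stalk_map_germ, ht, germ_res, hyV, germ_res, hyA]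
  rfl

theorem isIso_desc [IsLocallyNoetherian X] (F : EtCoh.Ab X)
    (hsupp : ∀ y ∈ EtPBC.supp F, IsClosed ({y} : Set X)) (c : Cofan (fam F)) (hc : IsColimit c) :
    IsIso (Cofan.IsColimit.desc hc fun x => incl x.2 F) := by
  set θ := Cofan.IsColimit.desc hc fun x => incl x.2 F with hθ
  have hfac : ∀ x, c.inj x ≫ θ = incl x.2 F := fun x => Cofan.IsColimit.fac hc _ x
  have key : ∀ (Ω : Type u) [Field Ω] [IsSepClosed Ω] (ξ : Spec (CommRingCat.of Ω) ⟶ X),
      Function.Bijective ((EtCoh.stalk ξ).map θ) := by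
    intro Ω _ _ ξ
    have hzero : ∀ (x : {x : ↥X // IsClosed ({x} : Set ↥X)}), ξ.base default ≠ x.1 →
        ∀ z : (EtCoh.stalk ξ).obj (fam F x), z = 0 := fun x hne z =>
      @Subsingleton.elim _ (AddCommGrpCat.subsingleton_of_isZero (isZero_stalk_sec x.2 F ξ hne)) z 0
    by_cases hx : IsClosed ({ξ.base default} : Set X)
    · have hrange : ∀ z : (EtCoh.stalk ξ).obj c.pt, ∃ a, (EtCoh.stalk ξ).map (c.inj ⟨_, hx⟩) a = z := fun z => by
        refine mem_range_of_cofan ξ hc ((EtCoh.stalk ξ).map (c.inj ⟨_, hx⟩)).hom.range (fun x w => ?_) z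
        by_cases he : ξ.base default = x.1
        · obtain rfl : (⟨_, hx⟩ : {x : ↥X // IsClosed ({x} : Set ↥X)}) = x := Subtype.ext he
          exact ⟨w, rfl⟩
        · rw [hzero x he w, map_zero]; exact zero_mem _
      refine ⟨(injective_iff_map_eq_zero _).2 fun z hz => ?_, fun z => ?_⟩
      · obtain ⟨a, rfl⟩ := hrange z
        have hinj : Function.Injective ((EtCoh.stalk ξ).map (incl hx F)) :=
          (Groth.L27.EtSite.mono_iff_stalks (incl hx F)).1 inferInstance Ω ξ
        rw [← ConcreteCategory.comp_apply, ← Functor.map_comp, hfac] at hz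
        rw [show a = 0 from hinj (hz.trans (map_zero _).symm), map_zero]
      · obtain ⟨a, ha⟩ := exists_germ_lift F hsupp ξ hx z
        refine ⟨(EtCoh.stalk ξ).map (c.inj ⟨_, hx⟩) a, ?_⟩
        rw [← ConcreteCategory.comp_apply, ← Functor.map_comp, hfac]
        exact ha
    · refine ⟨(injective_iff_map_eq_zero _).2 fun z _ => ?_, fun z => ⟨0, ?_⟩⟩
      · have := mem_range_of_cofan ξ hc ⊥ (fun x w => by
          rw [hzero x (fun e => hx (e ▸ x.2)) w, map_zero]; exact zero_mem _) z
        exact AddSubgroup.mem_bot.1 this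
      · rw [map_zero]
        have hns : IsZero ((EtCoh.stalk ξ).obj F) := not_not.1 fun hn =>
          hx (hsupp _ ⟨Ω, inferInstance, inferInstance, ξ, Groth.L28.Spz.range_eq_singleton ξ rfl, hn⟩)
        exact (@Subsingleton.elim _ (AddCommGrpCat.subsingleton_of_isZero hns) _ _)
  haveI : Mono θ := (Groth.L27.EtSite.mono_iff_stalks θ).2 fun Ω _ _ ξ => (key Ω ξ).1
  haveI : Epi θ := (Groth.L27.EtSite.epi_iff_stalks θ).2 fun Ω _ _ ξ => (key Ω ξ).2
  exact isIso_of_mono_of_epi θ

/-- sheaves supported at closed points are acyclic if these have separably closed residue fields -/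
theorem subsingleton_H_of_supp_closed' [AlgebraicGeometry.IsNoetherian X]
    (hcl : ∀ x : X, IsClosed ({x} : Set X) → IsSepClosed (X.residueField x)) (F : EtCoh.Ab X)
    (hsupp : ∀ y ∈ EtPBC.supp F, IsClosed ({y} : Set X)) (q : ℕ) : Subsingleton (EtCoh.H X F (q + 1)) := by
  haveI : HasColimitsOfSize.{u, u} (EtCoh.Ab X) := hasColimitsOfSizeShrink.{u, u, u + 1, u + 1} _
  let c : Cofan (fam F) := colimit.cocone _
  have hiso := isIso_desc F hsupp c (colimit.isColimit _)
  exact subsingleton_H_of_iso (@asIso _ _ _ _ _ hiso) (q + 1)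
    (Groth.Agent.S6641.subsingleton_coprod X _ (q + 1)
      (fun x => haveI := hcl x.1 x.2; subsingleton_H_sec' x.2 F q) c (colimit.isColimit _))

/-- sheaves supported at closed points are acyclic -/
theorem subsingleton_H_of_supp_closed {k : Type u} [Field k] [IsSepClosed k]
    (f : X ⟶ Spec (CommRingCat.of k)) [LocallyOfFiniteType f] [QuasiCompact f] (F : EtCoh.Ab X)
    (hsupp : ∀ y ∈ EtPBC.supp F, IsClosed ({y} : Set X)) (q : ℕ) : Subsingleton (EtCoh.H X F (q + 1)) := by
  haveI : IsLocallyNoetherian X := LocallyOfFiniteType.isLocallyNoetherian f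
  haveI : CompactSpace ↥X := QuasiCompact.compactSpace_of_compactSpace f
  haveI : AlgebraicGeometry.IsNoetherian X := {}
  exact subsingleton_H_of_supp_closed' (fun x hx => isSepClosed_residueField f x hx) F hsupp q

end Groth.L28.CurveCd
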