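import Groth.Agent.L28.CurveCd.Maximal
import Groth.Agent.L28.CurveCd.Decomp
import Mathlib.Algebra.Homology.DerivedCategory.Ext.ExactSequences

/-!
Morphisms which are isomorphisms at the maximal points of a curve.
-/

set_option autoImplicit false
set_option linter.style.haveILetI false
set_option linter.unusedSectionVars false
set_option backward.isDefEq.respectTransparency.types false

universe u

open CategoryTheory CategoryTheory.Limits AlgebraicGeometry Opposite CategoryTheory.Abelian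

namespace Groth.L28.CurveCd

variable {X : Scheme.{u}}

theorem bijective_g {E : ShortComplex (EtCoh.Ab X)} (hE : E.ShortExact) (i : ℕ)
    (h1 : Subsingleton (EtCoh.H X E.X₁ i)) (h2 : Subsingleton (EtCoh.H X E.X₁ (i + 1))) :
    Function.Bijective ((EtCoh.HF X i).map E.g) := by
  refine ⟨(injective_iff_map_eq_zero _).2 fun x hx => ?_, fun x => ?_⟩
  · obtain ⟨a, ha⟩ := Ext.covariant_sequence_exact₂ _ hE x ((Groth.L27.EtSite.HF_map_apply E.g i x).symm.trans hx)
    rw [← ha, @Subsingleton.elim (EtCoh.H X E.X₁ i) h1 a 0]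
    simp
    rfl
  · obtain ⟨a, ha⟩ := Ext.covariant_sequence_exact₃ _ hE x rfl (@Subsingleton.elim (EtCoh.H X E.X₁ (i + 1)) h2 _ _)
    exact ⟨a, (Groth.L27.EtSite.HF_map_apply E.g i a).trans ha⟩

theorem bijective_f {E : ShortComplex (EtCoh.Ab X)} (hE : E.ShortExact) (i : ℕ)
    (h1 : Subsingleton (EtCoh.H X E.X₃ i)) (h2 : Subsingleton (EtCoh.H X E.X₃ (i + 1))) :
    Function.Bijective ((EtCoh.HF X (i + 1)).map E.f) := by
  refine ⟨(injective_iff_map_eq_zero _).2 fun x hx => ?_, fun x => ?_⟩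
  · obtain ⟨a, ha⟩ := Ext.covariant_sequence_exact₁ _ hE x ((Groth.L27.EtSite.HF_map_apply E.f (i + 1) x).symm.trans hx) rfl
    rw [← ha, @Subsingleton.elim (EtCoh.H X E.X₃ i) h1 a 0]
    simp
    rfl
  · obtain ⟨a, ha⟩ := Ext.covariant_sequence_exact₂ _ hE x (@Subsingleton.elim (EtCoh.H X E.X₃ (i + 1)) h2 _ _)
    exact ⟨a, (Groth.L27.EtSite.HF_map_apply E.f (i + 1) a).trans ha⟩

theorem isZero_stalk_kernel {F G : EtCoh.Ab X} (φ : F ⟶ G) {Ω : Type u} [Field Ω] [IsSepClosed Ω]
    (ξ : Spec (CommRingCat.of Ω) ⟶ X) (h : Function.Injective ((EtCoh.stalk ξ).map φ)) :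
    IsZero ((EtCoh.stalk ξ).obj (kernel φ)) := by
  have : Subsingleton ↥((EtCoh.stalk ξ).obj (kernel φ)) := subsingleton_of_forall_eq 0 fun z => by
    have hι : Function.Injective ((EtCoh.stalk ξ).map (kernel.ι φ)) :=
      (Groth.L27.EtSite.mono_iff_stalks (kernel.ι φ)).1 inferInstance Ω ξ
    refine hι (h ?_)
    rw [← ConcreteCategory.comp_apply, ← Functor.map_comp, kernel.condition, Functor.map_zero, map_zero, map_zero]
    rfl
  exact AddCommGrpCat.isZero_of_subsingleton _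

theorem isZero_stalk_cokernel {F G : EtCoh.Ab X} (φ : F ⟶ G) {Ω : Type u} [Field Ω] [IsSepClosed Ω]
    (ξ : Spec (CommRingCat.of Ω) ⟶ X) (h : Function.Surjective ((EtCoh.stalk ξ).map φ)) :
    IsZero ((EtCoh.stalk ξ).obj (cokernel φ)) := by
  have : Subsingleton ↥((EtCoh.stalk ξ).obj (cokernel φ)) := subsingleton_of_forall_eq 0 fun z => by
    obtain ⟨a, rfl⟩ := (Groth.L27.EtSite.epi_iff_stalks (cokernel.π φ)).1 inferInstance Ω ξ z
    obtain ⟨b, rfl⟩ := h a
    rw [← ConcreteCategory.comp_apply, ← Functor.map_comp, cokernel.condition, Functor.map_zero]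
    rfl
  exact AddCommGrpCat.isZero_of_subsingleton _

/-- isomorphisms at maximal points: the kernel and the cokernel are acyclic -/
theorem acyclic_ker_coker {k : Type u} [Field k] [IsSepClosed k] (f : X ⟶ Spec (CommRingCat.of k))
    [LocallyOfFiniteType f] [QuasiCompact f] {F G : EtCoh.Ab X} (φ : F ⟶ G) (hdim : topologicalKrullDim X ≤ 1)
    (hgen : ∀ (Ω : Type u) [Field Ω] [IsSepClosed Ω] (ξ : Spec (CommRingCat.of Ω) ⟶ X),
      (∀ y : X, y ⤳ ξ.base default → y = ξ.base default) → Function.Bijective ((EtCoh.stalk ξ).map φ)) (q : ℕ) :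
    Subsingleton (EtCoh.H X (kernel φ) (q + 1)) ∧ Subsingleton (EtCoh.H X (cokernel φ) (q + 1)) := by
  have hs : ∀ K : EtCoh.Ab X, (∀ (Ω : Type u) [Field Ω] [IsSepClosed Ω] (ξ : Spec (CommRingCat.of Ω) ⟶ X),
      Function.Bijective ((EtCoh.stalk ξ).map φ) → IsZero ((EtCoh.stalk ξ).obj K)) →
      ∀ y ∈ EtPBC.supp K, IsClosed ({y} : Set X) := by
    intro K hK y hy
    refine (isClosed_or_maximal hdim y).resolve_right fun hmax => ?_
    obtain ⟨Ω, _, _, ξ, hξ, hne⟩ := hy
    obtain rfl : ξ.base default = y := hξ.subset ⟨_, rfl⟩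
    exact hne (hK Ω ξ (hgen Ω ξ hmax))
  exact ⟨subsingleton_H_of_supp_closed f _ (hs _ fun Ω _ _ ξ h => isZero_stalk_kernel φ ξ h.1) q,
    subsingleton_H_of_supp_closed f _ (hs _ fun Ω _ _ ξ h => isZero_stalk_cokernel φ ξ h.2) q⟩

/-- isomorphisms at non-closed points: the kernel and the cokernel are acyclic -/
theorem acyclic_ker_coker_of_nonclosed' [AlgebraicGeometry.IsNoetherian X]
    (hcl : ∀ x : X, IsClosed ({x} : Set X) → IsSepClosed (X.residueField x)) {F G : EtCoh.Ab X} (φ : F ⟶ G)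
    (hgen : ∀ (Ω : Type u) [Field Ω] [IsSepClosed Ω] (ξ : Spec (CommRingCat.of Ω) ⟶ X),
      ¬ IsClosed ({ξ.base default} : Set X) → Function.Bijective ((EtCoh.stalk ξ).map φ)) (q : ℕ) :
    Subsingleton (EtCoh.H X (kernel φ) (q + 1)) ∧ Subsingleton (EtCoh.H X (cokernel φ) (q + 1)) := by
  have hs : ∀ K : EtCoh.Ab X, (∀ (Ω : Type u) [Field Ω] [IsSepClosed Ω] (ξ : Spec (CommRingCat.of Ω) ⟶ X),
      Function.Bijective ((EtCoh.stalk ξ).map φ) → IsZero ((EtCoh.stalk ξ).obj K)) →
      ∀ y ∈ EtPBC.supp K, IsClosed ({y} : Set X) := by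
    intro K hK y hy
    by_contra hc
    obtain ⟨Ω, _, _, ξ, hξ, hne⟩ := hy
    obtain rfl : ξ.base default = y := hξ.subset ⟨_, rfl⟩
    exact hne (hK Ω ξ (hgen Ω ξ hc))
  exact ⟨subsingleton_H_of_supp_closed' hcl _ (hs _ fun Ω _ _ ξ h => isZero_stalk_kernel φ ξ h.1) q,
    subsingleton_H_of_supp_closed' hcl _ (hs _ fun Ω _ _ ξ h => isZero_stalk_cokernel φ ξ h.2) q⟩

/-- isomorphisms at non-closed points over a separably closed field -/
theorem acyclic_ker_coker_of_nonclosed {k : Type u} [Field k] [IsSepClosed k] (f : X ⟶ Spec (CommRingCat.of k))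
    [LocallyOfFiniteType f] [QuasiCompact f] {F G : EtCoh.Ab X} (φ : F ⟶ G)
    (hgen : ∀ (Ω : Type u) [Field Ω] [IsSepClosed Ω] (ξ : Spec (CommRingCat.of Ω) ⟶ X),
      ¬ IsClosed ({ξ.base default} : Set X) → Function.Bijective ((EtCoh.stalk ξ).map φ)) (q : ℕ) :
    Subsingleton (EtCoh.H X (kernel φ) (q + 1)) ∧ Subsingleton (EtCoh.H X (cokernel φ) (q + 1)) := by
  haveI : IsLocallyNoetherian X := LocallyOfFiniteType.isLocallyNoetherian f
  haveI : CompactSpace ↥X := QuasiCompact.compactSpace_of_compactSpace f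
  haveI : AlgebraicGeometry.IsNoetherian X := {}
  exact acyclic_ker_coker_of_nonclosed' (fun x hx => isSepClosed_residueField f x hx) φ hgen q

/-- bijectivity on cohomology -/
theorem bijective_of_acyclic {F G : EtCoh.Ab X} (φ : F ⟶ G)
    (hK : ∀ q : ℕ, Subsingleton (EtCoh.H X (kernel φ) (q + 1)))
    (hC : ∀ q : ℕ, Subsingleton (EtCoh.H X (cokernel φ) (q + 1))) (q : ℕ) :
    Function.Bijective ((EtCoh.HF X (q + 2)).map φ) ∧ (Epi φ → Function.Bijective ((EtCoh.HF X (q + 1)).map φ)) := by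
  let E₁ : ShortComplex (EtCoh.Ab X) := ShortComplex.mk (kernel.ι φ) (Abelian.factorThruImage φ)
    (by rw [← cancel_mono (Abelian.image.ι φ), Category.assoc, Abelian.image.fac, kernel.condition, zero_comp])
  haveI : Mono E₁.f := inferInstanceAs (Mono (kernel.ι φ))
  haveI : Epi E₁.g := inferInstanceAs (Epi (Abelian.factorThruImage φ))
  have hE₁ : E₁.ShortExact :=
    { exact := ShortComplex.exact_of_f_is_kernel _ (KernelFork.IsLimit.ofι' _ E₁.zero fun {A} a ha =>
        ⟨kernel.lift φ a (by rw [← Abelian.image.fac φ, ← Category.assoc, ha, zero_comp]), kernel.lift_ι _ _ _⟩) }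
  let E₂ : ShortComplex (EtCoh.Ab X) := ShortComplex.mk (Abelian.image.ι φ) (cokernel.π φ) (kernel.condition _)
  have hE₂ : E₂.ShortExact :=
    { exact := ShortComplex.exact_of_f_is_kernel _ (kernelIsKernel _)
      mono_f := inferInstanceAs (Mono (Abelian.image.ι φ))
      epi_g := inferInstanceAs (Epi (cokernel.π φ)) }
  have hg := fun i => bijective_g hE₁ (i + 1) (hK i) (hK (i + 1))
  constructor
  · rw [← Abelian.image.fac φ, Functor.map_comp]
    exact (bijective_f hE₂ (q + 1) (hC q) (hC (q + 1))).comp (hg (q + 1))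
  · intro he
    rw [← Abelian.image.fac φ, Functor.map_comp]
    haveI : IsIso (Abelian.image.ι φ) := by
      haveI : Epi (Abelian.image.ι φ) := by
        haveI : Epi (Abelian.factorThruImage φ ≫ Abelian.image.ι φ) := by rw [Abelian.image.fac]; exact he
        exact epi_of_epi (Abelian.factorThruImage φ) _
      exact isIso_of_mono_of_epi _
    exact (ConcreteCategory.bijective_of_isIso ((EtCoh.HF X (q + 1)).map (Abelian.image.ι φ))).comp (hg q)

end Groth.L28.CurveCd
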