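import Groth.Agent.L28.CurveCd.GenericLeray
import Groth.Agent.L28.EtTrace.CurveTrdeg
import Groth.Agent.L22.SchemeDim
import Mathlib.Topology.NoetherianSpace

/-!
Étale cohomological dimension of curves over algebraically closed fields.
-/

set_option autoImplicit false
set_option linter.style.haveILetI false
set_option linter.unusedSectionVars false
set_option backward.isDefEq.respectTransparency.types false

universe u

open CategoryTheory CategoryTheory.Limits AlgebraicGeometry Opposite TopologicalSpace

namespace Groth.L28.CurveCd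

variable {k : Type u} [Field k] [IsAlgClosed k] {X : Scheme.{u}} (f : X ⟶ Spec (CommRingCat.of k))
    [LocallyOfFiniteType f] [QuasiCompact f]

include f in
theorem exists_algebra_trdeg_point (hdim : topologicalKrullDim X ≤ 1) (x : X) (hx : ¬ IsClosed ({x} : Set X)) :
    ∃ _ : Algebra k (X.residueField x), Algebra.trdeg k (X.residueField x) = 1 := by
  letI : X.Over (Spec (CommRingCat.of k)) := ⟨f⟩
  haveI : LocallyOfFiniteType (X ↘ Spec (CommRingCat.of k)) := inferInstanceAs (LocallyOfFiniteType f)
  letI := Curv2.resAlgebra k X x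
  obtain ⟨n, hn, htr⟩ := Groth.L22.SchemeDim.exists_dim_closure_eq_trdeg k X x
  refine ⟨inferInstance, htr.trans ?_⟩
  have h1 : n ≤ 1 := by
    have h : (n : WithBot ℕ∞) ≤ 1 := hn.symm.le.trans ((topologicalKrullDim_subspace_le X _).trans hdim)
    exact_mod_cast h
  have h0 : n ≠ 0 := fun h => hx (by
    refine closure_subset_iff_isClosed.1 fun z hz => ?_
    by_contra hzx
    rw [Set.mem_singleton_iff] at hzx
    let x' : closure ({x} : Set X) := ⟨x, subset_closure rfl⟩
    let z' : closure ({x} : Set X) := ⟨z, hz⟩
    have hlt : cl z' < cl x' := cl_lt_cl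
      ((subtype_specializes_iff x' z').2 (specializes_iff_mem_closure.2 hz))
      (fun e => hzx (congrArg Subtype.val e))
    let p : LTSeries (IrreducibleCloseds (closure ({x} : Set X))) := LTSeries.mk 1 ![cl z', cl x']
      (Fin.strictMono_iff_lt_succ.2 fun i => by fin_cases i; exact hlt)
    have hp : ((p.length : ℕ) : WithBot ℕ∞) ≤ topologicalKrullDim (closure ({x} : Set X)) :=
      Order.LTSeries.length_le_krullDim p
    rw [hn, h, show p.length = 1 from rfl] at hp
    exact absurd hp (by decide))
  obtain rfl : n = 1 := by omega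
  exact Nat.cast_one

/-- the finitely many non-closed points -/
theorem finite_not_closed (hdim : topologicalKrullDim X ≤ 1) [IsLocallyNoetherian X] [CompactSpace X] :
    Finite {x : X // ¬ IsClosed ({x} : Set X)} := by
  haveI : AlgebraicGeometry.IsNoetherian X := {}
  haveI : NoetherianSpace X := inferInstance
  haveI := (NoetherianSpace.finite_irreducibleComponents (α := X)).to_subtype
  have hmem : ∀ x : {x : X // ¬ IsClosed ({x} : Set X)}, closure ({x.1} : Set X) ∈ irreducibleComponents X := fun x => by
    refine ⟨isIrreducible_singleton.closure, fun T hT hsub => ?_⟩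
    obtain ⟨η, hη⟩ := QuasiSober.sober hT.closure isClosed_closure
    have hηx : η ⤳ x.1 := hη.specializes (subset_closure (hsub (subset_closure rfl)))
    rw [((isClosed_or_maximal hdim x.1).resolve_left x.2) η hηx] at hη
    exact hη.def.ge.trans' subset_closure
  exact Finite.of_injective (fun x : {x : X // ¬ IsClosed ({x} : Set X)} =>
    (⟨closure {x.1}, hmem x⟩ : irreducibleComponents X)) fun a b h => Subtype.ext
      (((specializes_iff_closure_subset.2 (congrArg Subtype.val h).ge).antisymm
        (specializes_iff_closure_subset.2 (congrArg Subtype.val h).le)).eq)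

/-- the direct sum of the direct images from non-closed points -/
noncomputable abbrev genFam (F : EtCoh.Ab X) (x : {x : X // ¬ IsClosed ({x} : Set X)}) : EtCoh.Ab X :=
  (EtCoh.push (X.fromSpecResidueField x.1)).obj ((EtCoh.pull (X.fromSpecResidueField x.1)).obj F)

/-- cohomology above degree two on curves, from the vanishing at the non-closed points -/
theorem subsingleton_H' {X : Scheme.{u}} [AlgebraicGeometry.IsNoetherian X]
    (hcl : ∀ x : X, IsClosed ({x} : Set X) → IsSepClosed (X.residueField x))
    (hdim : topologicalKrullDim X ≤ 1) (F : EtCoh.Ab X)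
    (hgenW : ∀ (x : X), ¬ IsClosed ({x} : Set X) → ∀ (W : Scheme.{u}) [IsAffine W]
      (w : W ⟶ Spec (X.residueField x)) [AlgebraicGeometry.Etale w],
      (∀ p : ℕ, Subsingleton (EtCoh.H (Spec (X.residueField x)) ((EtCoh.pull (X.fromSpecResidueField x)).obj F) (p + 2))) ∧
      ∀ p : ℕ, Subsingleton (EtCoh.H W ((EtCoh.pull w).obj ((EtCoh.pull (X.fromSpecResidueField x)).obj F)) (p + 2)))
    (q : ℕ) : Subsingleton (EtCoh.H X F (q + 3)) := by
  haveI := finite_not_closed (X := X) hdim
  haveI := Fintype.ofFinite {x : X // ¬ IsClosed ({x} : Set X)}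
  classical
  haveI : HasBiproduct (genFam F) := HasBiproductsOfShape.has_biproduct _
  let φ : F ⟶ ⨁ (genFam F) :=
    biproduct.lift fun x => (EtCoh.pullPushAdj (X.fromSpecResidueField x.1)).unit.app F
  have hb := bijective_of_acyclic φ
    (fun i => (acyclic_ker_coker_of_nonclosed' hcl φ ?_ i).1) (fun i => (acyclic_ker_coker_of_nonclosed' hcl φ ?_ i).2) (q + 1)
  · haveI hsum : Subsingleton ↥((EtCoh.HF X (q + 3)).obj (⨁ (genFam F))) := by
      haveI : (EtCoh.HF X (q + 3)).Additive := ⟨fun {A B} {a b} => by
        refine AddCommGrpCat.ext fun e => ?_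
        show _ = (EtCoh.HF X (q + 3)).map a e + (EtCoh.HF X (q + 3)).map b e
        rw [Groth.L27.EtSite.HF_map_apply, Groth.L27.EtSite.HF_map_apply,
          Groth.L27.EtSite.HF_map_apply, Abelian.Ext.mk₀_add, Abelian.Ext.comp_add]
        rfl⟩
      refine AddCommGrpCat.subsingleton_of_isZero (Groth.Agent.S6641.isZero_biproduct _ (genFam F) fun x => ?_)
      haveI : Subsingleton ↥((EtCoh.HF X (q + 3)).obj (genFam F x)) :=
        subsingleton_H_push' hcl hdim x.1 _ (fun p => (hgenW x.1 x.2 (Spec (X.residueField x.1)) (𝟙 _)).1 p)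
          (fun W _ w _ p => (hgenW x.1 x.2 W w).2 p) q
      exact AddCommGrpCat.isZero_of_subsingleton _
    exact hb.1.injective.subsingleton
  all_goals
    intro Ω _ _ ξ hc
    let x₀ : {x : X // ¬ IsClosed ({x} : Set X)} := ⟨_, hc⟩
    haveI : (EtCoh.stalk ξ).Additive :=
      haveI : PreservesColimitsOfSize.{0, 0} (EtCoh.stalk ξ) := inferInstance
      Functor.additive_of_preserves_binary_products _
    have hother : ∀ x, x ≠ x₀ → IsZero ((EtCoh.stalk ξ).obj (genFam F x)) := fun x hne => by
      refine isZero_stalk_push_closure _ _ ξ ?_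
      rw [X.range_fromSpecResidueField x.1]
      exact not_specializes hdim hc fun e => hne (Subtype.ext e.symm)
    have hπι : (EtCoh.stalk ξ).map (biproduct.π (genFam F) x₀) ≫ (EtCoh.stalk ξ).map (biproduct.ι (genFam F) x₀) =
        𝟙 _ := by
      rw [← Functor.map_comp, ← CategoryTheory.Functor.map_id, ← IsBilimit.total (biproduct.isBilimit (genFam F)),
        Functor.map_sum, Finset.sum_eq_single x₀]
      · intro x _ hne
        rw [Functor.map_comp, (hother x hne).eq_of_tgt ((EtCoh.stalk ξ).map ((biproduct.bicone (genFam F)).π x)) 0,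
          zero_comp]
      · exact fun h => absurd (Finset.mem_univ _) h
    haveI : IsIso ((EtCoh.stalk ξ).map (biproduct.π (genFam F) x₀)) :=
      ⟨(EtCoh.stalk ξ).map (biproduct.ι (genFam F) x₀), hπι, by
        rw [← Functor.map_comp, biproduct.ι_π_self]
        exact CategoryTheory.Functor.map_id _ _⟩
    haveI : IsIso ((EtCoh.stalk ξ).map φ ≫ (EtCoh.stalk ξ).map (biproduct.π (genFam F) x₀)) := by
      rw [← Functor.map_comp, biproduct.lift_π]
      exact (ConcreteCategory.isIso_iff_bijective _).2 (bijective_stalk_unit x₀.1 ξ rfl F)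
    haveI : IsIso ((EtCoh.stalk ξ).map φ) :=
      IsIso.of_isIso_comp_right _ ((EtCoh.stalk ξ).map (biproduct.π (genFam F) x₀))
    exact ConcreteCategory.bijective_of_isIso _

include f in
/-- cohomology above degree two of torsion sheaves on curves vanishes -/
theorem subsingleton_H (hdim : topologicalKrullDim X ≤ 1) (F : EtCoh.Ab X) (hF : EtCoh.IsTorsion F) (q : ℕ) :
    Subsingleton (EtCoh.H X F (q + 3)) := by
  haveI : IsLocallyNoetherian X := LocallyOfFiniteType.isLocallyNoetherian f
  haveI : CompactSpace X := QuasiCompact.compactSpace_of_compactSpace f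
  haveI : AlgebraicGeometry.IsNoetherian X := {}
  refine subsingleton_H' (fun x hx => isSepClosed_residueField f x hx) hdim F (fun x hx W _ w _ => ?_) q
  obtain ⟨_, htr⟩ := exists_algebra_trdeg_point f hdim x hx
  exact ⟨fun p => subsingleton_torsion_etale k (X.residueField x) htr (Spec (X.residueField x)) (𝟙 _) _
      (isTorsion_pull _ hF) p,
    fun p => subsingleton_torsion_etale k (X.residueField x) htr W w _ (isTorsion_pull _ (isTorsion_pull _ hF)) p⟩

end Groth.L28.CurveCd
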