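import Groth.Agent.S6641
import Groth.Agent.L28.Supp.Sect
import Groth.Agent.L28.Supp.Generic
import Groth.Agent.L28.Divisor.Sky
import Groth.Agent.L27.Supp.Restrict
import Groth.Agent.L27.InjPush.Support
import Groth.Agent.L27.EtSite.PushStalk
import Groth.Agent.L18.CurveBasic
import Mathlib.FieldTheory.PurelyInseparable.Basic

/-!
Sheaves supported at closed points of a scheme of finite type over a separably closed field are acyclic.
-/

set_option autoImplicit false
set_option linter.style.haveILetI false
set_option linter.unusedSectionVars false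
set_option backward.isDefEq.respectTransparency.types false

universe u

open CategoryTheory CategoryTheory.Limits AlgebraicGeometry Opposite
open Groth.L27.Supp (ZeroAt)

namespace Groth.L28.CurveCd

theorem subsingleton_H_of_iso {X : Scheme.{u}} {F G : EtCoh.Ab X} (e : F ≅ G) (q : ℕ)
    (h : Subsingleton (EtCoh.H X F q)) : Subsingleton (EtCoh.H X G q) := by
  haveI : Subsingleton ↥((EtCoh.HF X q).obj F) := h
  exact AddCommGrpCat.subsingleton_of_isZero
    ((AddCommGrpCat.isZero_of_subsingleton ((EtCoh.HF X q).obj F)).of_iso ((EtCoh.HF X q).mapIso e.symm))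

/-- separably closed fields are acyclic -/
theorem subsingleton_H_sepClosed (L : Type u) [Field L] [IsSepClosed L]
    (F : EtCoh.Ab (Spec (CommRingCat.of L))) (i : ℕ) :
    Subsingleton (EtCoh.H (Spec (CommRingCat.of L)) F (i + 1)) := by
  refine subsingleton_of_forall_eq 0 fun a => ?_
  obtain ⟨E, _, _, _, _, hE⟩ := Groth.L28.EtTrace.exists_killing L i F a
  haveI := Groth.L27.EtSite.preservesFiniteLimits_pull (Groth.L28.EtTrace.specExt L E)
  have hb : Function.Bijective (algebraMap L E) :=
    ⟨RingHom.injective _, IsSepClosed.algebraMap_surjective L E⟩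
  have h1 : Module.finrank L E = 1 := by
    rw [← LinearEquiv.finrank_eq (LinearEquiv.ofBijective (Algebra.linearMap L E) hb), Module.finrank_self]
  simpa [h1] using Groth.L28.EtTrace.finrank_nsmul_eq_zero L E F (i + 1) a hE

theorem isSepClosed_residueField {k : Type u} [Field k] [IsSepClosed k] {X : Scheme.{u}}
    (f : X ⟶ Spec (CommRingCat.of k)) [LocallyOfFiniteType f] (x : X) (hx : IsClosed ({x} : Set X)) :
    IsSepClosed (X.residueField x) := by
  haveI : IsFinite (X.fromSpecResidueField x ≫ f) := by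
    rw [isClosed_singleton_iff_isClosedImmersion] at hx
    rw [isFinite_iff_locallyOfFiniteType_of_jacobsonSpace]
    infer_instance
  have hint : (Spec.preimage (X.fromSpecResidueField x ≫ f)).hom.IsIntegral := by
    rw [← IsIntegralHom.SpecMap_iff, Spec.map_preimage]
    infer_instance
  letI : Algebra k (X.residueField x) := (Spec.preimage (X.fromSpecResidueField x ≫ f)).hom.toAlgebra
  haveI : Algebra.IsIntegral k (X.residueField x) := ⟨hint⟩
  exact Algebra.IsAlgebraic.isSepClosed (F := k)

variable {X : Scheme.{u}} {x : X} (hx : IsClosed ({x} : Set X))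

/-- the complement of a closed point -/
def away : X.Opens := ⟨{x}ᶜ, hx.isOpen_compl⟩

/-- sections supported at a closed point -/
noncomputable def sec : EtCoh.Ab X ⥤ EtCoh.Ab X := EtDual.secSupp (away hx).ι

theorem range_away : Set.range (away hx).ι.base = ({x}ᶜ : Set X) := (away hx).range_ι

theorem isZero_stalk_sec (F : EtCoh.Ab X) {Ω : Type u} [Field Ω] [IsSepClosed Ω]
    (ξ : Spec (CommRingCat.of Ω) ⟶ X) (h : ξ.base default ≠ x) : IsZero ((EtCoh.stalk ξ).obj ((sec hx).obj F)) := by
  have hι : IsOpenImmersion (away hx).ι := inferInstance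
  let j := (away hx).ι
  haveI := Groth.L27.ExtZero.jCont j
  have hr : Set.range ξ ⊆ Set.range j := by
    rintro - ⟨z, rfl⟩
    rw [Subsingleton.elim (α := Spec (CommRingCat.of Ω)) z default]
    exact (range_away hx).ge h
  obtain ⟨v, rfl⟩ : ∃ v, v ≫ j = ξ := ⟨IsOpenImmersion.lift j ξ hr, IsOpenImmersion.lift_fac j ξ hr⟩
  exact IsZero.of_iso ((EtCoh.stalk v).map_isZero (Groth.L27.InjPush.isZero_pull_kernel j F))
    ((Groth.L27.EtSite.stalkPullIso j v).app _).symm

theorem supp_sec (F : EtCoh.Ab X) : EtPBC.supp ((sec hx).obj F) ⊆ {x} := by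
  rintro y ⟨Ω, _, _, ξ, hξ, hne⟩
  by_contra hy
  refine hne (isZero_stalk_sec hx F ξ ?_)
  rw [show ξ.base default = y from hξ.subset ⟨default, rfl⟩]
  exact hy

theorem subsingleton_H_sec' [IsSepClosed (X.residueField x)] (F : EtCoh.Ab X) (q : ℕ) :
    Subsingleton (EtCoh.H X ((sec hx).obj F) (q + 1)) := by
  let i := X.fromSpecResidueField x
  haveI : IsClosedImmersion i := isClosed_singleton_iff_isClosedImmersion.1 hx
  haveI : UniversallyInjective i := inferInstance
  haveI := Groth.L27.EtSite.preservesFiniteLimits_pull i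
  haveI := Groth.L27.EtSite.propB_of_isIntegralHom i
  haveI := (Groth.L27.EtSite.isIso_unit_iff i (Groth.L27.EtSite.propA_of_isIntegralHom i) ((sec hx).obj F)).2
    ((supp_sec hx F).trans (X.range_fromSpecResidueField x).ge)
  haveI := subsingleton_H_sepClosed (X.residueField x) ((EtCoh.pull i).obj ((sec hx).obj F)) q
  haveI : Subsingleton (EtCoh.H X ((EtCoh.push i).obj ((EtCoh.pull i).obj ((sec hx).obj F))) (q + 1)) :=
    (Groth.L27.EtSite.bijective_HofPush i _ (fun r hr =>
      Groth.L27.EtSite.isZero_Rpush_of_propB _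
        (Groth.L27.EtSite.propB_of_isIntegralHom i) _ r hr) (q + 1)).injective.subsingleton
  exact subsingleton_H_of_iso (asIso ((EtCoh.pullPushAdj i).unit.app ((sec hx).obj F))).symm (q + 1) ‹_›

theorem subsingleton_H_sec {k : Type u} [Field k] [IsSepClosed k] (f : X ⟶ Spec (CommRingCat.of k))
    [LocallyOfFiniteType f] (F : EtCoh.Ab X) (q : ℕ) : Subsingleton (EtCoh.H X ((sec hx).obj F) (q + 1)) :=
  haveI := isSepClosed_residueField f x hx
  subsingleton_H_sec' hx F q

/-- the inclusion -/
noncomputable def incl (F : EtCoh.Ab X) : (sec hx).obj F ⟶ F := (Groth.L28.Supp.secι (away hx).ι).app F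

instance mono_incl (F : EtCoh.Ab X) : Mono (incl hx F) := inferInstanceAs (Mono (kernel.ι _))

theorem exists_incl_eq (F : EtCoh.Ab X) (W : X.Etale) (s : F.obj.obj (op W))
    (h : ∀ w : W.left, W.hom.base w ≠ x → ZeroAt F s w) :
    ∃ t, (incl hx F).hom.app (op W) t = s := by
  have hι : IsOpenImmersion (away hx).ι := inferInstance
  let j := (away hx).ι
  haveI := Groth.L27.ExtZero.jCont j
  refine (Groth.L28.Supp.exists_secι_iff j F W s).2 (Groth.L27.Supp.eq_of_locally F _ _ fun p => ?_)
  obtain ⟨V, g, v, hv, h0⟩ := ZeroAt.map F (Groth.L27.ExtZero.epsE j W) (h ((Groth.L27.ExtZero.epsE j W).left p) (by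
    have e := MorphismProperty.Over.w (Groth.L27.ExtZero.epsE j W)
    have e' : W.hom.base ((Groth.L27.ExtZero.epsE j W).left p) = j (pullback.snd W.hom j p) :=
      (Scheme.Hom.comp_apply _ _ _).symm.trans ((congrArg (fun m : _ ⟶ X => m p) e).trans (Scheme.Hom.comp_apply _ _ _))
    rw [e']
    exact (range_away hx).le ⟨_, rfl⟩))
  exact ⟨V, g, v, hv, h0.trans (map_zero _).symm⟩

end Groth.L28.CurveCd
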