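import Groth.Agent.L28.CurveCd.GenIso
import Groth.Agent.L28.CurveCd.PointPull
import Groth.Agent.L28.CurveCd.FieldVanish
import Groth.Agent.L27.EtSite.HofPush
import Mathlib.AlgebraicGeometry.Morphisms.Affine

/-!
Cohomology of direct images from non-closed points of curves.
-/

set_option autoImplicit false
set_option linter.style.haveILetI false
set_option linter.unusedSectionVars false
set_option backward.isDefEq.respectTransparency.types false

universe u

open CategoryTheory CategoryTheory.Limits AlgebraicGeometry Opposite CategoryTheory.Abelian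

namespace Groth.L28.CurveCd

/-- stalks of direct images vanish off the closure of the image -/
theorem isZero_stalk_push_closure {X Y : Scheme.{u}} (f : X ⟶ Y) (F : EtCoh.Ab X) {Ω : Type u} [Field Ω]
    [IsSepClosed Ω] (η : Spec (CommRingCat.of Ω) ⟶ Y) (hη : η.base default ∉ closure (Set.range f.base)) :
    IsZero ((EtCoh.stalk η).obj ((EtCoh.push f).obj F)) := by
  have : Subsingleton ((EtCoh.stalk η).obj ((EtCoh.push f).obj F)) := ⟨fun p q => by
    obtain ⟨V, y, s, t, rfl, rfl⟩ := (Scheme.pointSmallEtale η).toPresheafFiber_jointly_surjective₂ p q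
    let O : V.left.Opens := V.hom ⁻¹ᵁ ⟨(closure (Set.range f.base))ᶜ, isClosed_closure.isOpen_compl⟩
    let V' : Y.Etale := Scheme.Etale.mk (O.ι ≫ V.hom)
    let a : V' ⟶ V := MorphismProperty.Over.homMk O.ι rfl
    haveI : IsOpenImmersion a.left := inferInstanceAs (IsOpenImmersion O.ι)
    obtain ⟨y', hy', -⟩ := Groth.L28.Sky.exists_fiber_lift η a y ⟨y.left.base (default : Spec (CommRingCat.of Ω)), by
      show V.hom.base (y.left.base (default : Spec (CommRingCat.of Ω))) ∈ (closure (Set.range f.base))ᶜ
      rw [Groth.L27.EtSite.fiber_apply y]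
      exact hη⟩ rfl
    haveI : IsEmpty ((EtCoh.bc f).obj V').left := ⟨fun z => (pullback.fst V'.hom f z).2 (subset_closure
      ⟨pullback.snd V'.hom f z, (Scheme.Hom.comp_apply _ _ _).symm.trans
        ((congrArg (fun m : pullback V'.hom f ⟶ Y => m z) pullback.condition.symm).trans
          (Scheme.Hom.comp_apply _ _ _))⟩)⟩
    refine ((Scheme.pointSmallEtale η).toPresheafFiber_eq_iff' _ _ _ _).2 ⟨V', a, y', hy', ?_⟩
    exact (Groth.L27.EtSite.subsingleton_of_isEmpty ((sheafCompose X.smallEtaleTopology (forget AddCommGrpCat.{u + 1})).obj F)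
      ((EtCoh.bc f).obj V')).elim _ _⟩
  exact AddCommGrpCat.isZero_of_subsingleton _

variable {k : Type u} [Field k] [IsSepClosed k] {X : Scheme.{u}} (f : X ⟶ Spec (CommRingCat.of k))
    [LocallyOfFiniteType f] [QuasiCompact f]

theorem not_specializes (hdim : topologicalKrullDim X ≤ 1) {x y : X} (hy : ¬ IsClosed ({y} : Set X)) (hne : y ≠ x) :
    y ∉ closure ({x} : Set X) := fun h =>
  hne (((isClosed_or_maximal hdim y).resolve_left hy) x (specializes_iff_mem_closure.2 h)).symm

instance isAffineHom_point (x : X) : IsAffineHom (X.fromSpecResidueField x) := ⟨fun W _ => by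
  rcases isEmpty_or_nonempty (X.fromSpecResidueField x ⁻¹ᵁ W).toScheme with h | ⟨⟨p, hp⟩⟩
  · show IsAffine _
    infer_instance
  · rw [show X.fromSpecResidueField x ⁻¹ᵁ W = ⊤ from TopologicalSpace.Opens.ext (Set.eq_univ_of_forall fun q =>
      Subsingleton.elim (α := Spec (X.residueField x)) p q ▸ hp)]
    exact isAffineOpen_top _⟩

theorem subsingleton_H_push' [AlgebraicGeometry.IsNoetherian X]
    (hcl : ∀ x : X, IsClosed ({x} : Set X) → IsSepClosed (X.residueField x)) (hdim : topologicalKrullDim X ≤ 1) (x : X) (G : EtCoh.Ab (Spec (X.residueField x)))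
    (hG : ∀ q : ℕ, Subsingleton (EtCoh.H (Spec (X.residueField x)) G (q + 2)))
    (hW : ∀ (W : Scheme.{u}) [IsAffine W] (w : W ⟶ Spec (X.residueField x)) [AlgebraicGeometry.Etale w] (q : ℕ),
      Subsingleton (EtCoh.H W ((EtCoh.pull w).obj G) (q + 2))) (q : ℕ) :
    Subsingleton (EtCoh.H X ((EtCoh.push (X.fromSpecResidueField x)).obj G) (q + 3)) := by
  let j := X.fromSpecResidueField x
  obtain ⟨E, hE, hI, rfl⟩ := Groth.L28.Supp.exists_presentation G
  haveI : PreservesLimitsOfSize.{0, 0} (EtCoh.push j) := (EtCoh.pullPushAdj j).rightAdjoint_preservesLimits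
  haveI : PreservesFiniteLimits (EtCoh.push j) := PreservesLimitsOfSize.preservesFiniteLimits _
  haveI := Groth.L27.EtSite.preservesFiniteLimits_pull j
  have hH3 : ∀ p, Subsingleton (EtCoh.H X ((EtCoh.push j).obj E.X₃) (p + 1)) := fun p => by
    have hA : ∀ V : X.Etale, IsAffine V.left → Groth.L28.Flasque.AcycAt ((EtCoh.bc j).obj V) E.X₃ := fun V hV => by
      refine acycAt_X₃_of_two hE _ fun r => ?_
      let W := (EtCoh.bc j).obj V
      let w : W.left ⟶ Spec (X.residueField x) := W.hom
      haveI : AlgebraicGeometry.Etale w := W.prop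
      let v : V.left ⟶ X := V.hom
      have hfst : IsAffineHom (pullback.fst v j) := MorphismProperty.pullback_fst (P := @IsAffineHom) v j inferInstance
      haveI : IsAffine W.left := @isAffine_of_isAffineHom _ _ (pullback.fst v j) hfst hV
      exact hW W.left w r
    have h3 : Subsingleton (EtCoh.H (Spec (X.residueField x)) E.X₃ (p + 1)) := by
      refine subsingleton_of_forall_eq 0 fun z => ?_
      obtain ⟨a, ha⟩ := Groth.L27.LimCoh.exists_map_of_δH_eq_zero hE (p + 1) z
        (@Subsingleton.elim (EtCoh.H (Spec (X.residueField x)) E.X₁ (p + 2)) (hG p) _ _)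
      rw [← ha, Groth.L27.LimCoh.eq_zero_of_injective _ p a]
      exact map_zero ((EtCoh.HF (Spec (X.residueField x)) (p + 1)).map E.g).hom
    exact (Groth.L27.EtSite.bijective_HofPush j _ (fun r hr => by
      obtain ⟨r, rfl⟩ : ∃ i, r = i + 1 := ⟨r - 1, by omega⟩
      exact Groth.L28.Flasque.isZero_Rpush_of_affine j r _ hA) (p + 1)).injective.subsingleton
  have hH2 : ∀ p, Subsingleton (EtCoh.H X ((EtCoh.push j).obj E.X₂) (p + 1)) := fun p =>
    subsingleton_of_forall_eq 0 fun z => by
      haveI : Injective ((EtCoh.push j).obj E.X₂) := Groth.L27.InjPush.injective_push j _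
      exact Groth.L27.LimCoh.eq_zero_of_injective _ p z
  let ψ := (EtCoh.push j).map E.g
  have hC : ∀ p, Subsingleton (EtCoh.H X (cokernel ψ) (p + 1)) := fun p =>
    subsingleton_H_of_supp_closed' hcl _ (fun y hy => by
      by_contra hyc
      obtain ⟨Ω, _, _, ξ, hξ, hne⟩ := hy
      obtain rfl : ξ.base default = y := hξ.subset ⟨_, rfl⟩
      refine hne (isZero_stalk_cokernel ψ ξ fun z => ?_)
      by_cases hx : ξ.base default = x
      · obtain ⟨v, rfl⟩ := Groth.L28.Sky.exists_factor ξ x hx
        haveI := hE.epi_g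
        haveI : Epi ((EtCoh.pull j).map ψ) := by
          haveI := isIso_counit_point x E.X₂
          haveI := isIso_counit_point x E.X₃
          have e := (EtCoh.pullPushAdj j).counit.naturality E.g
          have e' : (EtCoh.pull j).map ψ =
              (EtCoh.pullPushAdj j).counit.app E.X₂ ≫ E.g ≫ inv ((EtCoh.pullPushAdj j).counit.app E.X₃) := by
            rw [← Category.assoc, IsIso.eq_comp_inv]
            exact e
          rw [e']
          infer_instance
        have hs := (Groth.L27.EtSite.epi_iff_stalks ((EtCoh.pull j).map ψ)).1 inferInstance Ω v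
        let t := Groth.L27.EtSite.stalkPullIso j v
        obtain ⟨a, ha⟩ := hs ((t.app _).inv z)
        refine ⟨(t.app _).hom a, ?_⟩
        refine ((ConcreteCategory.congr_hom (t.hom.naturality ψ) a).symm.trans ?_)
        refine (congrArg ((t.app _).hom) ha).trans ?_
        exact Iso.inv_hom_id_apply (t.app _) z
      · have hz : IsZero ((EtCoh.stalk ξ).obj ((EtCoh.push j).obj E.X₃)) := by
          refine isZero_stalk_push_closure j _ ξ ?_
          rw [X.range_fromSpecResidueField x]
          exact not_specializes hdim hyc hx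
        exact ⟨0, @Subsingleton.elim _ (AddCommGrpCat.subsingleton_of_isZero hz) _ _⟩) p
  -- the image
  have hI2 : ∀ p, Subsingleton (EtCoh.H X (Abelian.image ψ) (p + 2)) := fun p => by
    let E₂ : ShortComplex (EtCoh.Ab X) := ShortComplex.mk (Abelian.image.ι ψ) (cokernel.π ψ) (kernel.condition _)
    have hE₂ : E₂.ShortExact :=
      { exact := ShortComplex.exact_of_f_is_kernel _ (kernelIsKernel _)
        mono_f := inferInstanceAs (Mono (Abelian.image.ι ψ))
        epi_g := inferInstanceAs (Epi (cokernel.π ψ)) }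
    haveI : Subsingleton ↥((EtCoh.HF X (p + 2)).obj E₂.X₂) := hH3 (p + 1)
    exact (bijective_f hE₂ (p + 1) (hC p) (hC (p + 1))).injective.subsingleton
  let T : ShortComplex (EtCoh.Ab X) := ShortComplex.mk ((EtCoh.push j).map E.f) (Abelian.factorThruImage ψ) (by
    rw [← cancel_mono (Abelian.image.ι ψ), Category.assoc, Abelian.image.fac, zero_comp, ← Functor.map_comp, E.zero,
      Functor.map_zero])
  haveI := hE.mono_f
  haveI : Mono T.f := inferInstanceAs (Mono ((EtCoh.push j).map E.f))
  haveI : Epi T.g := inferInstanceAs (Epi (Abelian.factorThruImage ψ))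
  have hT : T.ShortExact :=
    { exact := by
        let T' : ShortComplex (EtCoh.Ab X) := ShortComplex.mk ((EtCoh.push j).map E.f) ψ
          (by rw [← Functor.map_comp, E.zero, Functor.map_zero])
        have hK : IsLimit (KernelFork.ofι T'.f T'.zero) :=
          KernelFork.mapIsLimit _ hE.fIsKernel (EtCoh.push j)
        refine ShortComplex.exact_of_f_is_kernel _ (KernelFork.IsLimit.ofι' _ T.zero fun {A} a ha =>
          KernelFork.IsLimit.lift' hK a ?_)
        show a ≫ ψ = 0
        rw [← Abelian.image.fac ψ, ← Category.assoc, ha, zero_comp] }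
  refine subsingleton_of_forall_eq 0 fun z => ?_
  obtain ⟨a, ha⟩ := Ext.covariant_sequence_exact₁ _ hT z
    (@Subsingleton.elim (EtCoh.H X ((EtCoh.push j).obj E.X₂) (q + 3)) (hH2 (q + 2)) _ _)
    (n₀ := q + 2) rfl
  rw [← ha, @Subsingleton.elim (EtCoh.H X (Abelian.image ψ) (q + 2)) (hI2 q) a 0]
  simp

include f in
theorem subsingleton_H_push (hdim : topologicalKrullDim X ≤ 1) (x : X) (G : EtCoh.Ab (Spec (X.residueField x)))
    (hG : ∀ q : ℕ, Subsingleton (EtCoh.H (Spec (X.residueField x)) G (q + 2)))
    (hW : ∀ (W : Scheme.{u}) [IsAffine W] (w : W ⟶ Spec (X.residueField x)) [AlgebraicGeometry.Etale w] (q : ℕ),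
      Subsingleton (EtCoh.H W ((EtCoh.pull w).obj G) (q + 2))) (q : ℕ) :
    Subsingleton (EtCoh.H X ((EtCoh.push (X.fromSpecResidueField x)).obj G) (q + 3)) := by
  haveI : IsLocallyNoetherian X := LocallyOfFiniteType.isLocallyNoetherian f
  haveI : CompactSpace ↥X := QuasiCompact.compactSpace_of_compactSpace f
  haveI : AlgebraicGeometry.IsNoetherian X := {}
  exact subsingleton_H_push' (fun x hx => isSepClosed_residueField f x hx) hdim x G hG hW q

end Groth.L28.CurveCd
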