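import Groth.Agent.L28.CurveCd.GmStalk
import Groth.Agent.L28.GmTorsion.Basic
import Mathlib.RingTheory.Polynomial.Nilpotent
import Mathlib.Dynamics.Newton
import Mathlib.AlgebraicGeometry.Morphisms.ClosedImmersion

/-!
The reduction map between direct images of multiplicative groups along a nilpotent thickening.
-/

set_option autoImplicit false
set_option linter.style.haveILetI false
set_option linter.unusedSectionVars false
set_option backward.isDefEq.respectTransparency.types false

universe u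

open CategoryTheory CategoryTheory.Limits AlgebraicGeometry Opposite IsLocalRing
open Groth.L28.Divisor (mkU val val_inj)
open Groth.L28.Sky

namespace Groth.L28.CurveCd

variable {X T T' : Scheme.{u}} (j : T ⟶ X) (r : T' ⟶ T)

/-- the map of fibres -/
noncomputable def redHom (V : X.Etale) : ((EtCoh.bc (r ≫ j)).obj V).left ⟶ ((EtCoh.bc j).obj V).left :=
  pullback.lift (f := V.hom) (g := j) (pullback.fst V.hom (r ≫ j)) (pullback.snd V.hom (r ≫ j) ≫ r)
    (pullback.condition.trans (Category.assoc _ _ _).symm)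

theorem redHom_fst (V : X.Etale) : redHom j r V ≫ pullback.fst V.hom j = pullback.fst V.hom (r ≫ j) :=
  pullback.lift_fst _ _ _

theorem redHom_snd (V : X.Etale) : redHom j r V ≫ pullback.snd V.hom j = pullback.snd V.hom (r ≫ j) ≫ r :=
  pullback.lift_snd _ _ _

theorem isPullback_redHom (V : X.Etale) :
    IsPullback (redHom j r V) (pullback.snd V.hom (r ≫ j)) (pullback.snd V.hom j) r :=
  IsPullback.of_right ((redHom_fst j r V).symm ▸ IsPullback.of_hasPullback V.hom (r ≫ j)) (redHom_snd j r V)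
    (IsPullback.of_hasPullback V.hom j)

theorem redHom_naturality {V W : X.Etale} (a : V ⟶ W) :
    ((EtCoh.bc (r ≫ j)).map a).left ≫ redHom j r W = redHom j r V ≫ ((EtCoh.bc j).map a).left := by
  apply pullback.hom_ext
  · exact (Category.assoc _ _ _).trans ((congrArg (_ ≫ ·) (redHom_fst j r W)).trans
      ((EtCoh.isPullback_bc_map (r ≫ j) a).w.trans (((congrArg (· ≫ a.left) (redHom_fst j r V)).symm.trans
        (Category.assoc _ _ _)).trans ((congrArg (redHom j r V ≫ ·) (EtCoh.isPullback_bc_map j a).w.symm).trans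
          (Category.assoc _ _ _).symm))))
  · exact (Category.assoc _ _ _).trans ((congrArg (_ ≫ ·) (redHom_snd j r W)).trans
      ((Category.assoc _ _ _).symm.trans ((congrArg (· ≫ r) (MorphismProperty.Over.w ((EtCoh.bc (r ≫ j)).map a))).trans
        ((redHom_snd j r V).symm.trans ((congrArg (redHom j r V ≫ ·) (MorphismProperty.Over.w ((EtCoh.bc j).map a)).symm).trans
          (Category.assoc _ _ _).symm)))))

/-- the fibres as functors -/
noncomputable def redTrans : EtCoh.bc (r ≫ j) ⋙ Scheme.Etale.forget T' ⋙ Over.forget T' ⟶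
    EtCoh.bc j ⋙ Scheme.Etale.forget T ⋙ Over.forget T where
  app V := redHom j r V
  naturality _ _ a := redHom_naturality j r a

/-- reduction of units -/
noncomputable def gmRed : (EtCoh.push j).obj (EtCoh.Gm T) ⟶ (EtCoh.push (r ≫ j)).obj (EtCoh.Gm T') :=
  ObjectProperty.homMk (Functor.whiskerRight (NatTrans.op (redTrans j r)) EtCoh.ΓUnits)

theorem val_gmRed (V : X.Etale) (s : ((EtCoh.push j).obj (EtCoh.Gm T)).obj.obj (op V)) :
    val (W := ((EtCoh.bc (r ≫ j)).obj V).left) ((gmRed j r).hom.app (op V) s) =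
      (redHom j r V).appTop (val (W := ((EtCoh.bc j).obj V).left) s) := rfl

theorem GmPush_gmRed : EtLim.GmPush j ≫ gmRed j r = EtLim.GmPush (r ≫ j) := by
  refine ObjectProperty.hom_ext _ (NatTrans.ext (funext fun V => ?_))
  refine ConcreteCategory.hom_ext _ _ fun s => val_inj (W := ((EtCoh.bc (r ≫ j)).obj V.unop).left) ?_
  show (redHom j r V.unop).appTop ((pullback.fst V.unop.hom j).appTop (val (W := V.unop.left) s)) =
    (pullback.fst V.unop.hom (r ≫ j)).appTop (val (W := V.unop.left) s)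
  rw [← redHom_fst j r V.unop, Scheme.Hom.comp_appTop]
  rfl

variable [IsClosedImmersion r] [Surjective r] [IsAffineHom j]

theorem redHom_spec (V : X.Etale) [IsAffine V.left] :
    Function.Surjective (redHom j r V).appTop.hom ∧
      ∀ a, (redHom j r V).appTop.hom a = 0 → IsNilpotent a := by
  let P := ((EtCoh.bc j).obj V).left
  let m : ((EtCoh.bc (r ≫ j)).obj V).left ⟶ P := redHom j r V
  let v : V.left ⟶ X := V.hom
  haveI : IsAffineHom (pullback.fst v j) := MorphismProperty.pullback_fst (P := @IsAffineHom) v j inferInstance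
  haveI : IsAffine P := @isAffine_of_isAffineHom _ _ (pullback.fst v j) ‹_› ‹_›
  haveI : IsClosedImmersion m :=
    MorphismProperty.of_isPullback (P := @IsClosedImmersion) (isPullback_redHom j r V).flip inferInstance
  haveI : Surjective m :=
    MorphismProperty.of_isPullback (P := @Surjective) (isPullback_redHom j r V).flip inferInstance
  refine ⟨(IsClosedImmersion.isAffine_surjective_of_isAffine m).2, fun a ha => ?_⟩
  refine (Scheme.isNilpotent_iff_basicOpen_eq_bot a).2 (TopologicalSpace.Opens.ext ?_)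
  refine Set.eq_empty_of_forall_notMem fun q hq => ?_
  obtain ⟨q', rfl⟩ := m.surjective q
  have hq' : q' ∈ m ⁻¹ᵁ (P.basicOpen a) := hq
  rw [Scheme.preimage_basicOpen_top] at hq'
  rw [show m.appTop a = 0 from ha, Scheme.basicOpen_zero] at hq'
  exact hq'

theorem surjective_units_red (V : X.Etale) [IsAffine V.left]
    (s : ((EtCoh.push (r ≫ j)).obj (EtCoh.Gm T')).obj.obj (op V)) :
    ∃ t, (gmRed j r).hom.app (op V) t = s := by
  obtain ⟨hs, hn⟩ := redHom_spec j r V
  let P' := ((EtCoh.bc (r ≫ j)).obj V).left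
  obtain ⟨a, ha⟩ := hs (val (W := P') s)
  obtain ⟨b, hb⟩ := hs (↑(Groth.L28.Divisor.isUnit_val (W := P') s).unit⁻¹ : Γ(P', ⊤))
  have hab : IsUnit (a * b) := by
    have h : IsNilpotent (a * b - 1) := hn _ (by
      rw [map_sub, map_mul, map_one, ha, hb, IsUnit.mul_val_inv, sub_self])
    simpa using h.isUnit_add_one
  refine ⟨mkU (W := ((EtCoh.bc j).obj V).left) (isUnit_of_mul_isUnit_left hab).unit, val_inj (W := P') ?_⟩
  exact (congrArg (redHom j r V).appTop.hom (IsUnit.unit_spec _)).trans ha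

theorem epi_gmRed : Epi (gmRed j r) := by
  refine (Sheaf.isLocallySurjective_iff_epi' AddCommGrpCat.{u + 1} _).mp ⟨fun {V} t => ?_⟩
  refine (Groth.L27.EtSite.mem_topology_iff _).2 fun w => ?_
  let h : V.left ⟶ X := V.hom
  haveI : AlgebraicGeometry.Etale h := V.prop
  obtain ⟨O, hO, hwO, -⟩ := exists_isAffineOpen_mem_and_subset (U := (⊤ : V.left.Opens)) (x := w) trivial
  let V' : X.Etale := Scheme.Etale.mk (O.ι ≫ h)
  let g : V' ⟶ V := MorphismProperty.Over.homMk O.ι rfl
  haveI : IsAffine V'.left := hO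
  obtain ⟨s, hs⟩ := surjective_units_red j r V' (((EtCoh.push (r ≫ j)).obj (EtCoh.Gm T')).obj.map g.op t)
  exact ⟨V', g, ⟨w, hwO⟩, ⟨s, hs⟩, rfl⟩

theorem shortExact_gmRed : (ShortComplex.mk (kernel.ι (gmRed j r)) (gmRed j r) (kernel.condition _)).ShortExact :=
  { exact := ShortComplex.exact_of_f_is_kernel _ (kernelIsKernel _)
    mono_f := inferInstanceAs (Mono (kernel.ι (gmRed j r)))
    epi_g := epi_gmRed j r }

theorem exists_unique_root (V : X.Etale) [IsAffine V.left] {ℓ : ℕ} (hℓ : IsUnit (ℓ : Γ(X, ⊤)))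
    (s : ((EtCoh.push j).obj (EtCoh.Gm T)).obj.obj (op V)) (hs : (gmRed j r).hom.app (op V) s = 0) :
    (∃ t, (gmRed j r).hom.app (op V) t = 0 ∧ ℓ • t = s) ∧ (ℓ • s = 0 → s = 0) := by
  let P := ((EtCoh.bc j).obj V).left
  let P' := ((EtCoh.bc (r ≫ j)).obj V).left
  let m : P' ⟶ P := redHom j r V
  obtain ⟨-, hn⟩ := redHom_spec j r V
  have hℓP : IsUnit (ℓ : Γ(P, ⊤)) := by
    have := (Groth.L28.GmTorsion.isUnit_natCast_etale hℓ V).map (pullback.fst V.hom j).appTop.hom
    rwa [map_natCast] at this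
  have hℓP' : IsUnit (ℓ : Γ(P', ⊤)) := by
    have := hℓP.map m.appTop.hom
    rwa [map_natCast] at this
  have h1 : m.appTop (val (W := P) s) = 1 := (congrArg (val (W := P')) hs :)
  have hu : IsNilpotent (val (W := P) s - 1) := hn _ (by rw [map_sub, map_one]; exact sub_eq_zero.2 h1)
  refine ⟨?_, fun h0 => ?_⟩
  · let Q : Polynomial Γ(P, ⊤) := Polynomial.X ^ ℓ - Polynomial.C (val (W := P) s)
    have hQ : IsNilpotent (Polynomial.aeval (1 : Γ(P, ⊤)) Q) := by
      simpa [Q] using hu.neg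
    have hQ' : IsUnit (Polynomial.aeval (1 : Γ(P, ⊤)) (Polynomial.derivative Q)) := by
      simpa [Q, Polynomial.derivative_X_pow] using hℓP
    obtain ⟨b, ⟨hb, hbQ⟩, -⟩ := Polynomial.existsUnique_nilpotent_sub_and_aeval_eq_zero hQ hQ'
    have hbs : b ^ ℓ = val (W := P) s := sub_eq_zero.1 (by simpa [Q] using hbQ)
    have hbu : IsUnit b := by
      have := hb.neg.isUnit_add_one
      simpa using this
    refine ⟨mkU (W := P) hbu.unit, val_inj (W := P') ?_, val_inj (W := P) ?_⟩
    · show m.appTop b = 1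
      let Q' : Polynomial Γ(P', ⊤) := Polynomial.X ^ ℓ - 1
      have hQ0 : Polynomial.aeval (1 : Γ(P', ⊤)) Q' = 0 := by simp [Q']
      have hQ1 : IsUnit (Polynomial.aeval (1 : Γ(P', ⊤)) (Polynomial.derivative Q')) := by
        simpa [Q', Polynomial.derivative_X_pow] using hℓP'
      obtain ⟨c, -, huniq⟩ := Polynomial.existsUnique_nilpotent_sub_and_aeval_eq_zero
        (hQ0.symm ▸ IsNilpotent.zero) hQ1
      refine (huniq (m.appTop b) ⟨?_, ?_⟩).trans (huniq 1 ⟨by simp, hQ0⟩).symm
      · have := hb.map m.appTop.hom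
        rwa [map_sub, map_one] at this
      · simp only [Q', map_sub, map_pow, Polynomial.aeval_X, map_one]
        rw [← map_pow, hbs, h1, sub_self]
    · exact (Groth.L28.Divisor.val_nsmul _ _).trans ((congrArg (· ^ ℓ) (IsUnit.unit_spec hbu)).trans hbs)
  · let Q : Polynomial Γ(P, ⊤) := Polynomial.X ^ ℓ - 1
    have hQ0 : Polynomial.aeval (1 : Γ(P, ⊤)) Q = 0 := by simp [Q]
    have hQ1 : IsUnit (Polynomial.aeval (1 : Γ(P, ⊤)) (Polynomial.derivative Q)) := by
      simpa [Q, Polynomial.derivative_X_pow] using hℓP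
    obtain ⟨c, -, huniq⟩ := Polynomial.existsUnique_nilpotent_sub_and_aeval_eq_zero
      (hQ0.symm ▸ IsNilpotent.zero) hQ1
    refine val_inj (W := P) ((huniq _ ⟨?_, ?_⟩).trans (huniq 1 ⟨by simp, hQ0⟩).symm)
    · simpa using hu.neg
    · have h2 : val (W := P) s ^ ℓ = 1 :=
        ((Groth.L28.Divisor.val_nsmul _ _).symm.trans (congrArg (val (W := P)) h0) :)
      simp [Q, h2]

theorem exists_affine_nbhd {Ω : Type u} [Field Ω] [IsSepClosed Ω] (ξ : Spec (CommRingCat.of Ω) ⟶ X) (V : X.Etale)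
    (y : (Scheme.pointSmallEtale ξ).fiber.obj V) :
    ∃ (W : X.Etale) (g : W ⟶ V) (y' : (Scheme.pointSmallEtale ξ).fiber.obj W),
      (Scheme.pointSmallEtale ξ).fiber.map g y' = y ∧ IsAffine W.left := by
  let h : V.left ⟶ X := V.hom
  haveI : AlgebraicGeometry.Etale h := V.prop
  let w : V.left := y.left.base (default : Spec (CommRingCat.of Ω))
  obtain ⟨O, hO, hwO, -⟩ := exists_isAffineOpen_mem_and_subset (U := (⊤ : V.left.Opens)) (x := w) trivial
  let V' : X.Etale := Scheme.Etale.mk (O.ι ≫ h)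
  let g : V' ⟶ V := MorphismProperty.Over.homMk O.ι rfl
  haveI : IsOpenImmersion g.left := inferInstanceAs (IsOpenImmersion O.ι)
  obtain ⟨y', hy', -⟩ := exists_fiber_lift ξ g y ⟨_, hwO⟩ rfl
  exact ⟨V', g, y', hy', hO⟩

theorem exists_affine_ker_germ {Ω : Type u} [Field Ω] [IsSepClosed Ω] (ξ : Spec (CommRingCat.of Ω) ⟶ X)
    (a : (EtCoh.stalk ξ).obj ((EtCoh.push j).obj (EtCoh.Gm T))) (ha : (EtCoh.stalk ξ).map (gmRed j r) a = 0) :
    ∃ (W : X.Etale) (_ : IsAffine W.left) (y : (Scheme.pointSmallEtale ξ).fiber.obj W)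
      (s : ((EtCoh.push j).obj (EtCoh.Gm T)).obj.obj (op W)),
      germ ξ W y s = a ∧ (gmRed j r).hom.app (op W) s = 0 := by
  obtain ⟨V, y, s, rfl⟩ := (Scheme.pointSmallEtale ξ).toPresheafFiber_jointly_surjective a
  obtain ⟨V', g, y', hy', he⟩ := ((Scheme.pointSmallEtale ξ).toPresheafFiber_eq_iff' _ _ _ _).1
    (((stalk_map_germ ξ (gmRed j r) V y s).symm.trans ha).trans (map_zero _).symm)
  obtain ⟨W, g', y'', hy'', hW⟩ := exists_affine_nbhd ξ V' y'
  refine ⟨W, hW, y'', ((EtCoh.push j).obj (EtCoh.Gm T)).obj.map g'.op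
    (((EtCoh.push j).obj (EtCoh.Gm T)).obj.map g.op s), ?_, ?_⟩
  · refine (germ_res ξ g' y'' _).trans ?_
    refine (germ_res ξ g _ _).trans ?_
    exact congrArg (fun q => germ ξ V q s) ((congrArg ((Scheme.pointSmallEtale ξ).fiber.map g) hy'').trans hy')
  · refine (NatTrans.naturality_apply (gmRed j r).hom g'.op _).trans ?_
    refine (congrArg (((EtCoh.push (r ≫ j)).obj (EtCoh.Gm T')).obj.map g'.op)
      ((NatTrans.naturality_apply (gmRed j r).hom g.op s).trans (he.trans (map_zero _)))).trans ?_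
    exact map_zero _

theorem isIso_nsmul_kernel {ℓ : ℕ} (hℓ : IsUnit (ℓ : Γ(X, ⊤))) : IsIso (ℓ • 𝟙 (kernel (gmRed j r))) := by
  have key : ∀ (Ω : Type u) [Field Ω] [IsSepClosed Ω] (ξ : Spec (CommRingCat.of Ω) ⟶ X),
      Function.Bijective ((EtCoh.stalk ξ).map (ℓ • 𝟙 (kernel (gmRed j r)))) := by
    intro Ω _ _ ξ
    haveI : (EtCoh.stalk ξ).Additive :=
      haveI : PreservesColimitsOfSize.{0, 0} (EtCoh.stalk ξ) := inferInstance
      Functor.additive_of_preserves_binary_products _
    have hmap : ∀ z, (EtCoh.stalk ξ).map (ℓ • 𝟙 (kernel (gmRed j r))) z = ℓ • z := fun z => by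
      rw [Functor.map_nsmul, CategoryTheory.Functor.map_id]
      rfl
    have hS := (shortExact_gmRed j r).map_of_exact (EtCoh.stalk ξ)
    have hι : Function.Injective ((EtCoh.stalk ξ).map (kernel.ι (gmRed j r))) :=
      (Groth.L27.EtSite.mono_iff_stalks (kernel.ι (gmRed j r))).1 inferInstance Ω ξ
    have hker : ∀ z, (EtCoh.stalk ξ).map (gmRed j r) ((EtCoh.stalk ξ).map (kernel.ι (gmRed j r)) z) = 0 := fun z => by
      rw [← ConcreteCategory.comp_apply, ← Functor.map_comp, kernel.condition, Functor.map_zero]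
      rfl
    refine ⟨(injective_iff_map_eq_zero _).2 fun z hz => hι ?_, fun z => ?_⟩
    · rw [map_zero]
      obtain ⟨W, hW, y, s, hs, hs0⟩ := exists_affine_ker_germ j r ξ _ (hker z)
      have h0 : germ ξ W y (ℓ • s) = 0 := by
        refine (map_nsmul _ ℓ s).trans ?_
        refine (congrArg (ℓ • ·) hs).trans ?_
        rw [← map_nsmul, show ℓ • z = 0 from (hmap z).symm.trans hz, map_zero]
      obtain ⟨V, g, y', hy', he⟩ := ((Scheme.pointSmallEtale ξ).toPresheafFiber_eq_iff' _ _ _ _).1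
        (h0.trans (map_zero _).symm)
      obtain ⟨V', g', y'', hy'', hV'⟩ := exists_affine_nbhd ξ V y'
      let G := (EtCoh.push j).obj (EtCoh.Gm T)
      have hr : (gmRed j r).hom.app (op V') (G.obj.map g'.op (G.obj.map g.op s)) = 0 := by
        refine (NatTrans.naturality_apply (gmRed j r).hom g'.op _).trans ?_
        refine (congrArg (((EtCoh.push (r ≫ j)).obj (EtCoh.Gm T')).obj.map g'.op)
          ((NatTrans.naturality_apply (gmRed j r).hom g.op s).trans
            ((congrArg _ hs0).trans (map_zero _)))).trans ?_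
        exact map_zero _
      have hz' := (exists_unique_root j r V' hℓ _ hr).2 (by
        rw [← map_nsmul, ← map_nsmul, show G.obj.map g.op (ℓ • s) = 0 from he.trans (map_zero _), map_zero])
      rw [← hs, ← hy', ← hy'']
      refine (germ_res ξ g _ s).symm.trans ?_
      refine (germ_res ξ g' y'' _).symm.trans ?_
      exact (congrArg (germ ξ V' y'') hz').trans (map_zero _)
    · obtain ⟨W, hW, y, s, hs, hs0⟩ := exists_affine_ker_germ j r ξ _ (hker z)
      obtain ⟨⟨t, ht0, ht⟩, -⟩ := exists_unique_root j r W hℓ s hs0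
      have h0 : (EtCoh.stalk ξ).map (gmRed j r) (germ ξ W y t) = 0 :=
        (stalk_map_germ ξ (gmRed j r) W y t).trans ((congrArg (germ ξ W y) ht0).trans (map_zero _))
      obtain ⟨w, hw⟩ := (ShortComplex.ab_exact_iff _).1 hS.exact _ h0
      refine ⟨w, (hmap w).trans (hι ?_)⟩
      rw [map_nsmul]
      refine (congrArg (ℓ • ·) hw).trans ?_
      exact (map_nsmul _ ℓ t).symm.trans ((congrArg (germ ξ W y) ht).trans hs)
  haveI : Mono (ℓ • 𝟙 (kernel (gmRed j r))) := (Groth.L27.EtSite.mono_iff_stalks _).2 fun Ω _ _ ξ => (key Ω ξ).1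
  haveI : Epi (ℓ • 𝟙 (kernel (gmRed j r))) := (Groth.L27.EtSite.epi_iff_stalks _).2 fun Ω _ _ ξ => (key Ω ξ).2
  exact isIso_of_mono_of_epi _

end Groth.L28.CurveCd
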