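import Groth.Agent.L28.CurveCd.Main
import Groth.Agent.L28.GmTorsion.Basic
import Groth.Prelude.Def_Dix

/-!
Étale cohomological dimension of curves at a prime, from that of the residue fields of the maximal points.
-/

set_option autoImplicit false
set_option linter.style.haveILetI false
set_option linter.unusedSectionVars false
set_option backward.isDefEq.respectTransparency.types false

universe u

open CategoryTheory CategoryTheory.Limits AlgebraicGeometry Opposite TopologicalSpace

namespace Groth.L28.CurveCd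

theorem nsmul_id_pull {W W' : Scheme.{u}} (g : W' ⟶ W) {n : ℕ} {G : EtCoh.Ab W} (h : n • 𝟙 G = 0) :
    n • 𝟙 ((EtCoh.pull g).obj G) = 0 := by
  haveI : (EtCoh.pull g).Additive := (EtCoh.pullPushAdj g).left_adjoint_additive
  rw [← CategoryTheory.Functor.map_id, ← Functor.map_nsmul, h, Functor.map_zero]

theorem nsmul_id_push {W W' : Scheme.{u}} (g : W' ⟶ W) {n : ℕ} {G : EtCoh.Ab W'} (h : n • 𝟙 G = 0) :
    n • 𝟙 ((EtCoh.push g).obj G) = 0 := by
  haveI : (EtCoh.push g).Additive := (EtCoh.pullPushAdj g).right_adjoint_additive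
  rw [← CategoryTheory.Functor.map_id, ← Functor.map_nsmul, h, Functor.map_zero]

/-- sheaves killed by a prime power on affine étale schemes over a field of small cohomological dimension -/
theorem subsingleton_killed_etale (ℓ k : ℕ) (K : Type u) [Field K]
    (hcd : Dix.CohDimLEAt (Spec (CommRingCat.of K)) ℓ 1) (W : Scheme.{u}) [IsAffine W]
    (w : W ⟶ Spec (CommRingCat.of K)) [AlgebraicGeometry.Etale w] (G : EtCoh.Ab W) (hG : (ℓ ^ k) • 𝟙 G = 0) (q : ℕ) :
    Subsingleton (EtCoh.H W G (q + 2)) := by
  refine subsingleton_etale_of (fun {W} (G : EtCoh.Ab W) => (ℓ ^ k) • 𝟙 G = 0) (fun g _ h => nsmul_id_pull g h) K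
    (fun E _ _ _ _ G hG q => ?_) W w G hG q
  let r : Spec (CommRingCat.of E) ⟶ Spec (CommRingCat.of K) := Spec.map (CommRingCat.ofHom (algebraMap K E))
  haveI : IsIntegralHom r := (IsIntegralHom.SpecMap_iff).2 (algebraMap_isIntegral_iff.2 inferInstance)
  haveI := Groth.L27.EtSite.preservesFiniteLimits_pull r
  haveI := hcd ((EtCoh.push r).obj G) (Groth.L28.GmTorsion.isPrimaryTorsion_of_nsmul _ (nsmul_id_push r hG)) (q + 2) (by omega)
  exact (Groth.L27.EtSite.bijective_HofPush r G (fun s hs =>
    Groth.L27.EtSite.isZero_Rpush_of_propB _ (Groth.L27.EtSite.propB_of_isIntegralHom r) _ s hs) (q + 2)).surjective.subsingleton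

theorem closure_mem_irreducibleComponents {X : Scheme.{u}} (hdim : topologicalKrullDim X ≤ 1) (x : X)
    (hx : ¬ IsClosed ({x} : Set X)) : closure ({x} : Set X) ∈ irreducibleComponents X := by
  refine ⟨isIrreducible_singleton.closure, fun T hT hsub => ?_⟩
  obtain ⟨η, hη⟩ := QuasiSober.sober hT.closure isClosed_closure
  have hηx : η ⤳ x := hη.specializes (subset_closure (hsub (subset_closure rfl)))
  rw [((isClosed_or_maximal hdim x).resolve_left hx) η hηx] at hη
  exact hη.def.ge.trans' subset_closure

/-- sheaves killed by a prime power have no cohomology above degree two on curves -/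
theorem subsingleton_H_killed {X : Scheme.{u}} [AlgebraicGeometry.IsNoetherian X] (ℓ k : ℕ)
    (hdim : topologicalKrullDim X ≤ 1)
    (hcd : ∀ x : X, closure {x} ∈ irreducibleComponents (X : Type u) → Dix.CohDimLEAt (Spec (X.residueField x)) ℓ 1)
    (hcl : ∀ x : X, IsClosed ({x} : Set X) → IsSepClosed (X.residueField x))
    (F : EtCoh.Ab X) (hF : (ℓ ^ k) • 𝟙 F = 0) (q : ℕ) : Subsingleton (EtCoh.H X F (q + 3)) := by
  refine subsingleton_H' hcl hdim F (fun x hx W _ w _ => ?_) q
  have hK := hcd x (closure_mem_irreducibleComponents hdim x hx)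
  exact ⟨fun p => subsingleton_killed_etale ℓ k (X.residueField x) hK (Spec (X.residueField x)) (𝟙 _) _
      (nsmul_id_pull _ hF) p,
    fun p => subsingleton_killed_etale ℓ k (X.residueField x) hK W w _ (nsmul_id_pull w (nsmul_id_pull _ hF)) p⟩

end Groth.L28.CurveCd
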