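import Groth.Agent.L28.CurveCd.SuppColim
import Groth.Agent.L28.CurveCd.Biprod
import Groth.Agent.L28.ExtShriek.Closures
import Mathlib.Order.KrullDimension

/-!
Uniquely divisible sheaves have no cohomology above the dimension.
-/

set_option autoImplicit false
set_option linter.style.haveILetI false
set_option linter.unusedSectionVars false
set_option backward.isDefEq.respectTransparency.types false

universe u

open CategoryTheory CategoryTheory.Limits AlgebraicGeometry Opposite TopologicalSpace CategoryTheory.Abelian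

namespace Groth.L28.CurveCd

variable {X : Scheme.{u}}

theorem UD.map {Y : Scheme.{u}} (Φ : EtCoh.Ab X ⥤ EtCoh.Ab Y) [Φ.Additive] {F : EtCoh.Ab X} (hF : UD F) :
    UD (Φ.obj F) := fun n hn => by
  haveI := hF n hn
  rw [← CategoryTheory.Functor.map_id, ← Functor.map_nsmul]
  infer_instance

theorem UD.push {Y : Scheme.{u}} (f : X ⟶ Y) {F : EtCoh.Ab X} (hF : UD F) : UD ((EtCoh.push f).obj F) :=
  haveI : (EtCoh.push f).Additive := (EtCoh.pullPushAdj f).right_adjoint_additive
  UD.map (EtCoh.push f) hF

theorem UD.biproduct {ι : Type u} [Fintype ι] (G : ι → EtCoh.Ab X) [HasBiproduct G] (h : ∀ i, UD (G i)) :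
    UD (⨁ G) := fun n hn => by
  haveI := fun i => h i n hn
  have e : n • 𝟙 (⨁ G) = (biproduct.mapIso fun i => asIso (n • 𝟙 (G i))).hom := by
    refine biproduct.hom_ext _ _ fun i => ?_
    simp [Preadditive.nsmul_comp]
  rw [e]
  infer_instance

theorem UD.kernel {F G : EtCoh.Ab X} (φ : F ⟶ G) (hF : UD F) (hG : UD G) : UD (Limits.kernel φ) := fun n hn => by
  haveI := hF n hn
  haveI := hG n hn
  have e : n • 𝟙 (Limits.kernel φ) = (kernel.mapIso φ φ (asIso (n • 𝟙 F)) (asIso (n • 𝟙 G))
      (by simp [Preadditive.comp_nsmul, Preadditive.nsmul_comp])).hom := by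
    refine equalizer.hom_ext ?_
    simp [Preadditive.nsmul_comp, Preadditive.comp_nsmul]
  rw [e]
  infer_instance

theorem UD.cokernel {F G : EtCoh.Ab X} (φ : F ⟶ G) (hF : UD F) (hG : UD G) : UD (Limits.cokernel φ) := fun n hn => by
  haveI := hF n hn
  haveI := hG n hn
  have e : n • 𝟙 (Limits.cokernel φ) = (cokernel.mapIso φ φ (asIso (n • 𝟙 F)) (asIso (n • 𝟙 G))
      (by simp [Preadditive.comp_nsmul, Preadditive.nsmul_comp])).hom := by
    refine coequalizer.hom_ext ?_
    simp [Preadditive.nsmul_comp, Preadditive.comp_nsmul]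
  rw [e]
  infer_instance

theorem supp_secSupp (W : X.Opens) (F : EtCoh.Ab X) : EtPBC.supp ((EtDual.secSupp W.ι).obj F) ⊆ (W : Set X)ᶜ := by
  rintro y ⟨Ω, _, _, ξ, hξ, hne⟩ hy
  refine hne ?_
  have hι : IsOpenImmersion W.ι := inferInstance
  let j := W.ι
  haveI := Groth.L27.ExtZero.jCont j
  have hr : Set.range ξ ⊆ Set.range j := by
    intro z hz
    rw [Scheme.Opens.range_ι]
    rw [(show z = y from hξ.subset hz)]
    exact hy
  obtain ⟨v, rfl⟩ : ∃ v, v ≫ j = ξ := ⟨IsOpenImmersion.lift j ξ hr, IsOpenImmersion.lift_fac j ξ hr⟩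
  exact IsZero.of_iso ((EtCoh.stalk v).map_isZero (Groth.L27.InjPush.isZero_pull_kernel j F))
    ((Groth.L27.EtSite.stalkPullIso j v).app _).symm

theorem subsingleton_H_UD_height : ∀ (n : ℕ) (X : Scheme.{u}) [AlgebraicGeometry.IsNoetherian X],
    (∀ y : X, Order.height (cl y) < n) → ∀ F : EtCoh.Ab X, UD F → ∀ i : ℕ, n ≤ i →
      Subsingleton (EtCoh.H X F i) := by
  intro n
  induction n with
  | zero =>
    intro X _ hX F _ i _
    haveI : IsEmpty X := ⟨fun y => not_lt_zero (by exact_mod_cast hX y : Order.height (cl y) < 0)⟩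
    have hF : IsZero F := (IsZero.iff_id_eq_zero F).2 (ObjectProperty.hom_ext _ (NatTrans.ext (funext fun U => by
      haveI : IsEmpty U.unop.left := ⟨fun u =>
        let h : U.unop.left ⟶ X := U.unop.hom
        isEmptyElim (h.base u)⟩
      refine ConcreteCategory.hom_ext _ _ fun s => ?_
      exact Groth.L27.EtSite.ext_of_locally F fun u => isEmptyElim u)))
    haveI := isAdditive_HF' (X := X) i
    exact AddCommGrpCat.subsingleton_of_isZero ((EtCoh.HF X i).map_isZero hF)
  | succ n ih =>
    intro X _ hX F hF i hi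
    obtain ⟨i, rfl⟩ : ∃ r, i = r + 1 := ⟨i - 1, by omega⟩
    haveI : NoetherianSpace X := inferInstance
    haveI := (NoetherianSpace.finite_irreducibleComponents (α := X)).to_subtype
    let M := {x : X // ∀ y : X, y ⤳ x → y = x}
    have hmem : ∀ x : M, closure ({x.1} : Set X) ∈ irreducibleComponents X := fun x => by
      refine ⟨isIrreducible_singleton.closure, fun T hT hsub => ?_⟩
      obtain ⟨η, hη⟩ := QuasiSober.sober hT.closure isClosed_closure
      have hηx : η ⤳ x.1 := hη.specializes (subset_closure (hsub (subset_closure rfl)))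
      rw [x.2 η hηx] at hη
      exact hη.def.ge.trans' subset_closure
    haveI : Finite M := Finite.of_injective (fun x : M =>
      (⟨closure {x.1}, hmem x⟩ : irreducibleComponents X)) fun a b h => Subtype.ext
        (((specializes_iff_closure_subset.2 (congrArg Subtype.val h).ge).antisymm
          (specializes_iff_closure_subset.2 (congrArg Subtype.val h).le)).eq)
    haveI := Fintype.ofFinite M
    classical
    let gf : M → EtCoh.Ab X := fun x =>
      (EtCoh.push (X.fromSpecResidueField x.1)).obj ((EtCoh.pull (X.fromSpecResidueField x.1)).obj F)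
    haveI : HasBiproduct gf := HasBiproductsOfShape.has_biproduct _
    let φ : F ⟶ ⨁ gf := biproduct.lift fun x => (EtCoh.pullPushAdj (X.fromSpecResidueField x.1)).unit.app F
    have hstalk : ∀ (Ω : Type u) [Field Ω] [IsSepClosed Ω] (ξ : Spec (CommRingCat.of Ω) ⟶ X),
        (∀ y : X, y ⤳ ξ.base default → y = ξ.base default) → Function.Bijective ((EtCoh.stalk ξ).map φ) := by
      intro Ω _ _ ξ hmax
      refine bijective_stalk_lift gf _ ξ ⟨_, hmax⟩ (fun x hne => ?_) (bijective_stalk_unit _ ξ rfl F)
      refine isZero_stalk_push_closure _ _ ξ ?_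
      rw [X.range_fromSpecResidueField x.1]
      exact fun h => hne (Subtype.ext (hmax x.1 (specializes_iff_mem_closure.2 h)))
    let P : Set X := {y | ¬ ∀ z : X, z ⤳ y → z = y}
    have hP : ∀ a b : X, a ⤳ b → a ∈ P → b ∈ P := fun a b hab ha hb => ha fun z hz => by
      have h1 := hb z (hz.trans hab)
      have h2 := hb a hab
      exact h1.trans h2.symm
    have hGUD : UD (⨁ gf) := UD.biproduct gf fun x => UD.push _ (hF.pull _)
    have hsupp : ∀ K : EtCoh.Ab X, (∀ (Ω : Type u) [Field Ω] [IsSepClosed Ω] (ξ : Spec (CommRingCat.of Ω) ⟶ X),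
        Function.Bijective ((EtCoh.stalk ξ).map φ) → IsZero ((EtCoh.stalk ξ).obj K)) → EtPBC.supp K ⊆ P := by
      intro K hK y hy hmax
      obtain ⟨Ω, _, _, ξ, hξ, hne⟩ := hy
      obtain rfl : ξ.base default = y := hξ.subset ⟨_, rfl⟩
      exact hne (hK Ω ξ (hstalk Ω ξ hmax))
    have hvan : ∀ K : EtCoh.Ab X, UD K → EtPBC.supp K ⊆ P → ∀ q, n ≤ q → Subsingleton (EtCoh.H X K q) := by
      intro K hK hsK q hq
      refine subsingleton_H_of_supp P hP K hsK q fun W hW => ?_
      let Zc : Closeds X := ⟨(W : Set X)ᶜ, W.2.isClosed_compl⟩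
      let I := Scheme.IdealSheafData.vanishingIdeal Zc
      let ι := I.subschemeι
      have hrange : Set.range ι.base = (W : Set X)ᶜ := by
        show Set.range I.subschemeι.base = _
        rw [Scheme.IdealSheafData.range_subschemeι, Scheme.IdealSheafData.coe_support_vanishingIdeal]
        rfl
      haveI : IsLocallyNoetherian I.subscheme := LocallyOfFiniteType.isLocallyNoetherian ι
      haveI : CompactSpace I.subscheme := QuasiCompact.compactSpace_of_compactSpace ι
      haveI : AlgebraicGeometry.IsNoetherian I.subscheme := {}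
      haveI : UniversallyInjective ι := inferInstance
      haveI := Groth.L27.EtSite.preservesFiniteLimits_pull ι
      let G := (EtDual.secSupp W.ι).obj K
      haveI := (Groth.L27.EtSite.isIso_unit_iff ι (Groth.L27.EtSite.propA_of_isIntegralHom ι) G).2
        ((supp_secSupp W K).trans hrange.ge)
      have hht : ∀ z : I.subscheme, Order.height (cl z) < n := by
        intro z
        let f : IrreducibleCloseds I.subscheme → IrreducibleCloseds X := fun T =>
          ⟨closure (ι.base '' T), (T.isIrreducible.image _ ι.continuous.continuousOn).closure, isClosed_closure⟩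
        have hf : ∀ T, (f T : Set X) = ι.base '' T := fun T => (ι.isClosedEmbedding.isClosedMap _ T.isClosed).closure_eq
        have hfm : StrictMono f := fun A B hAB => by
          refine lt_of_le_of_ne ?_ fun e => hAB.ne (IrreducibleCloseds.ext ?_)
          · show (f A : Set X) ⊆ f B
            rw [hf, hf]
            exact Set.image_mono hAB.le
          · have := congrArg (fun T : IrreducibleCloseds X => (T : Set X)) e
            simp only [hf] at this
            exact ι.isClosedEmbedding.injective.image_injective this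
        have hcl : f (cl z) ≤ cl (ι.base z) := by
          show (f (cl z) : Set X) ⊆ closure {ι.base z}
          rw [hf]
          refine (image_closure_subset_closure_image ι.continuous).trans ?_
          rw [Set.image_singleton]
        have hzP : ι.base z ∈ P := hW (hrange ▸ ⟨z, rfl⟩)
        obtain ⟨η, hη⟩ := not_forall.1 hzP
        obtain ⟨hηz, hne⟩ : η ⤳ ι.base z ∧ η ≠ ι.base z := Classical.not_imp.1 hη
        have h1 : Order.height (cl (ι.base z)) + 1 ≤ Order.height (cl η) :=
          Order.height_add_one_le (cl_lt_cl hηz hne.symm)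
        have h2 : Order.height (cl z) ≤ Order.height (cl (ι.base z)) :=
          (Order.height_le_height_apply_of_strictMono f hfm (cl z)).trans (Order.height_mono hcl)
        have h3 : Order.height (cl z) + 1 < (n : ℕ∞) + 1 := by
          have := hX η
          push_cast at this
          exact (add_le_add_left h2 1).trans_lt (h1.trans_lt this)
        exact lt_of_add_lt_add_right h3
      haveI := ih I.subscheme hht ((EtCoh.pull ι).obj G) ((UD.map (EtDual.secSupp W.ι) hK).pull ι) q hq
      haveI : Subsingleton (EtCoh.H X ((EtCoh.push ι).obj ((EtCoh.pull ι).obj G)) q) :=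
        (Groth.L27.EtSite.bijective_HofPush ι _ (fun r hr =>
          Groth.L27.EtSite.isZero_Rpush_of_propB _
            (Groth.L27.EtSite.propB_of_isIntegralHom ι) _ r hr) q).injective.subsingleton
      exact subsingleton_H_of_iso (asIso ((EtCoh.pullPushAdj ι).unit.app G)).symm q ‹_›
    have hK := hvan (Limits.kernel φ) (UD.kernel φ hF hGUD) (hsupp _ fun Ω _ _ ξ h => isZero_stalk_kernel φ ξ h.1)
    have hC := hvan (Limits.cokernel φ) (UD.cokernel φ hF hGUD) (hsupp _ fun Ω _ _ ξ h => isZero_stalk_cokernel φ ξ h.2)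
    have hG : Subsingleton (EtCoh.H X (⨁ gf) (i + 1)) := subsingleton_of_forall_eq 0 fun z =>
      eq_zero_of_π gf (i + 1) z fun x => @Subsingleton.elim _ (subsingleton_H_push_UD x.1 _ (hF.pull _) i) _ _
    let E₂ : ShortComplex (EtCoh.Ab X) := ShortComplex.mk (Abelian.image.ι φ) (cokernel.π φ) (kernel.condition _)
    have hE₂ : E₂.ShortExact :=
      { exact := ShortComplex.exact_of_f_is_kernel _ (kernelIsKernel _)
        mono_f := inferInstanceAs (Mono (Abelian.image.ι φ))
        epi_g := inferInstanceAs (Epi (cokernel.π φ)) }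
    let E₁ : ShortComplex (EtCoh.Ab X) := ShortComplex.mk (kernel.ι φ) (Abelian.factorThruImage φ)
      (by rw [← cancel_mono (Abelian.image.ι φ), Category.assoc, Abelian.image.fac, kernel.condition, zero_comp])
    haveI : Mono E₁.f := inferInstanceAs (Mono (kernel.ι φ))
    haveI : Epi E₁.g := inferInstanceAs (Epi (Abelian.factorThruImage φ))
    have hE₁ : E₁.ShortExact :=
      { exact := ShortComplex.exact_of_f_is_kernel _ (KernelFork.IsLimit.ofι' _ E₁.zero fun {A} a ha =>
          ⟨kernel.lift φ a (by rw [← Abelian.image.fac φ, ← Category.assoc, ha, zero_comp]), kernel.lift_ι _ _ _⟩) }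
    have him : Subsingleton (EtCoh.H X E₂.X₁ (i + 1)) := subsingleton_of_forall_eq 0 fun z => by
      obtain ⟨a, ha⟩ := Ext.covariant_sequence_exact₁ _ hE₂ z (@Subsingleton.elim (EtCoh.H X E₂.X₂ (i + 1)) hG _ _)
        (n₀ := i) rfl
      rw [← ha, @Subsingleton.elim (EtCoh.H X E₂.X₃ i) (hC i (by omega)) a 0]
      simp
    refine subsingleton_of_forall_eq 0 fun z => ?_
    obtain ⟨a, ha⟩ := Ext.covariant_sequence_exact₂ _ hE₁ z (@Subsingleton.elim (EtCoh.H X E₁.X₃ (i + 1)) him _ _)
    rw [← ha, @Subsingleton.elim (EtCoh.H X E₁.X₁ (i + 1)) (hK (i + 1) (by omega)) a 0]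
    simp

end Groth.L28.CurveCd
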