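import Groth.Agent.L28.CurveCd.Main

/-!
Uniquely divisible sheaves on curves.
-/

set_option autoImplicit false
set_option linter.style.haveILetI false
set_option linter.unusedSectionVars false
set_option backward.isDefEq.respectTransparency.types false

universe u

open CategoryTheory CategoryTheory.Limits AlgebraicGeometry Opposite TopologicalSpace

namespace Groth.L28.CurveCd

/-- uniquely divisible -/
def UD {X : Scheme.{u}} (F : EtCoh.Ab X) : Prop := ∀ n : ℕ, 0 < n → IsIso (n • 𝟙 F)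

theorem UD.pull {X Y : Scheme.{u}} (f : Y ⟶ X) {F : EtCoh.Ab X} (hF : UD F) : UD ((EtCoh.pull f).obj F) := by
  intro n hn
  haveI := hF n hn
  haveI := Groth.L27.EtSite.preservesFiniteLimits_pull f
  haveI : (EtCoh.pull f).Additive := Functor.additive_of_preserves_binary_products _
  rw [← CategoryTheory.Functor.map_id, ← Functor.map_nsmul]
  infer_instance

theorem eq_zero_of_UD {X : Scheme.{u}} {F : EtCoh.Ab X} (hF : UD F) (n : ℕ) (hn : 0 < n) {i : ℕ}
    (a : EtCoh.H X F i) (h : n • a = 0) : a = 0 := by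
  haveI := hF n hn
  refine (ConcreteCategory.bijective_of_isIso ((EtCoh.HF X i).map (n • 𝟙 F))).1 (Eq.trans ?_ (map_zero _).symm)
  rw [Groth.L27.EtSite.HF_map_apply]
  let e : (F ⟶ F) →+ EtCoh.H X F i :=
    AddMonoidHom.mk' (fun f => a.comp (Abelian.Ext.mk₀ f) (add_zero i)) fun p q => by
      rw [Abelian.Ext.mk₀_add, Abelian.Ext.comp_add]
  show e (n • 𝟙 F) = _
  rw [map_nsmul]
  show n • a.comp (Abelian.Ext.mk₀ (𝟙 F)) (add_zero i) = _
  rw [Abelian.Ext.comp_mk₀_id, h]
  rfl

theorem subsingleton_field_UD (E : Type u) [Field E] (G : EtCoh.Ab (Spec (CommRingCat.of E))) (hG : UD G) (q : ℕ) :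
    Subsingleton (EtCoh.H (Spec (CommRingCat.of E)) G (q + 1)) := by
  refine subsingleton_of_forall_eq 0 fun a => ?_
  obtain ⟨L, _, _, _, _, hL⟩ := Groth.L28.EtTrace.exists_killing E q G a
  haveI := Groth.L27.EtSite.preservesFiniteLimits_pull (Groth.L28.EtTrace.specExt E L)
  exact eq_zero_of_UD hG _ (Module.finrank_pos (R := E) (M := L)) a
    (Groth.L28.EtTrace.finrank_nsmul_eq_zero E L G (q + 1) a hL)

theorem subsingleton_etale_UD (K : Type u) [Field K] (W : Scheme.{u}) [IsAffine W]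
    (w : W ⟶ Spec (CommRingCat.of K)) [AlgebraicGeometry.Etale w] (G : EtCoh.Ab W) (hG : UD G) (q : ℕ) :
    Subsingleton (EtCoh.H W G (q + 1)) := by
  let φ : K →+* Γ(W, ⊤) := w.appTop.hom.comp (Scheme.ΓSpecIso (CommRingCat.of K)).inv.hom
  letI := φ.toAlgebra
  haveI : Algebra.Etale K Γ(W, ⊤) :=
    RingHom.Etale.respectsIso.2 w.appTop.hom (Scheme.ΓSpecIso (CommRingCat.of K)).symm.commRingCatIsoToRingEquiv
      (HasRingHomProperty.appTop @AlgebraicGeometry.Etale w ‹_›)
  obtain ⟨I, _, Ai, _, _, e, hfs⟩ := (Algebra.Etale.iff_exists_algEquiv_prod K Γ(W, ⊤)).1 ‹_›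
  let R : I → CommRingCat.{u} := fun i => CommRingCat.of (Ai i)
  let θ : Spec (CommRingCat.of (Π i, R i)) ≅ W :=
    Scheme.Spec.mapIso (e.toRingEquiv.toCommRingCatIso).op ≪≫ W.isoSpec.symm
  let c : ∀ i, Spec (R i) ⟶ W := fun i => Spec.map (CommRingCat.ofHom (Pi.evalRingHom (R ·) i)) ≫ θ.hom
  haveI : ∀ i, IsOpenImmersion (c i) := fun i => inferInstance
  let V : I → W.Etale := fun i => Scheme.Etale.mk (c i)
  haveI : ∀ i, IsOpenImmersion (V i).hom := fun i => inferInstanceAs (IsOpenImmersion (c i))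
  have hd : Pairwise fun i j => Disjoint (Set.range (V i).hom) (Set.range (V j).hom) := fun i j hij => by
    refine Set.disjoint_left.2 ?_
    rintro _ ⟨a, rfl⟩ ⟨b, hb⟩
    have h1 : Spec.map (CommRingCat.ofHom (Pi.evalRingHom (R ·) i)) a =
        Spec.map (CommRingCat.ofHom (Pi.evalRingHom (R ·) j)) b := by
      refine θ.hom.homeomorph.injective ?_
      show θ.hom _ = θ.hom _
      rw [← Scheme.Hom.comp_apply, ← Scheme.Hom.comp_apply]
      exact hb.symm
    classical
    have h2 : Pi.single i (1 : R i) ∈ (Spec.map (CommRingCat.ofHom (Pi.evalRingHom (R ·) j)) b).asIdeal := by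
      show Pi.evalRingHom (R ·) j (Pi.single i 1) ∈ b.asIdeal
      rw [Pi.evalRingHom_apply, Pi.single_eq_of_ne (Ne.symm hij)]
      exact Ideal.zero_mem _
    rw [← h1] at h2
    have h3 : Pi.evalRingHom (R ·) i (Pi.single i 1) ∈ a.asIdeal := h2
    rw [Pi.evalRingHom_apply, Pi.single_eq_same] at h3
    exact a.isPrime.ne_top ((Ideal.eq_top_iff_one _).2 h3)
  have hc : ∀ x : W, ∃ i y, (V i).hom y = x := fun x => by
    obtain ⟨y, hy⟩ := (sigmaSpec R ≫ θ.hom).surjective x
    obtain ⟨i, z, hz⟩ : ∃ i z, Sigma.ι (fun i => Spec (R i)) i z = y := (sigmaOpenCover _).exists_eq y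
    refine ⟨i, z, ?_⟩
    show c i z = x
    rw [← hy, ← hz, ← Scheme.Hom.comp_apply, ← Category.assoc, ι_sigmaSpec]
  refine Groth.L28.Flasque.subsingleton_H_disjoint V hd hc q G fun i r hr => ?_
  obtain ⟨r, rfl⟩ : ∃ j, r = j + 1 := ⟨r - 1, by omega⟩
  exact subsingleton_field_UD (Ai i) _ (hG.pull (c i)) r

theorem subsingleton_H_push_UD {X : Scheme.{u}} (x : X) (G : EtCoh.Ab (Spec (X.residueField x))) (hG : UD G)
    (q : ℕ) : Subsingleton (EtCoh.H X ((EtCoh.push (X.fromSpecResidueField x)).obj G) (q + 1)) := by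
  let j := X.fromSpecResidueField x
  haveI := Groth.L27.EtSite.preservesFiniteLimits_pull j
  have hA : ∀ V : X.Etale, IsAffine V.left → Groth.L28.Flasque.AcycAt ((EtCoh.bc j).obj V) G := fun V hV r hr => by
    obtain ⟨r, rfl⟩ : ∃ i, r = i + 1 := ⟨r - 1, by omega⟩
    let W := (EtCoh.bc j).obj V
    let w : W.left ⟶ Spec (X.residueField x) := W.hom
    haveI : AlgebraicGeometry.Etale w := W.prop
    let v : V.left ⟶ X := V.hom
    have hfst : IsAffineHom (pullback.fst v j) := MorphismProperty.pullback_fst (P := @IsAffineHom) v j inferInstance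
    haveI : IsAffine W.left := @isAffine_of_isAffineHom _ _ (pullback.fst v j) hfst hV
    exact subsingleton_etale_UD (X.residueField x) W.left w _ (hG.pull w) r
  haveI := subsingleton_field_UD (X.residueField x) G hG q
  exact (Groth.L27.EtSite.bijective_HofPush j _ (fun r hr => by
      obtain ⟨r, rfl⟩ : ∃ i, r = i + 1 := ⟨r - 1, by omega⟩
      exact Groth.L28.Flasque.isZero_Rpush_of_affine j r _ hA) (q + 1)).injective.subsingleton

theorem subsingleton_H_UD {k : Type u} [Field k] [IsSepClosed k] {X : Scheme.{u}} [AlgebraicGeometry.IsIntegral X]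
    (f : X ⟶ Spec (CommRingCat.of k)) [LocallyOfFiniteType f] [QuasiCompact f]
    (hdim : topologicalKrullDim X ≤ 1) (F : EtCoh.Ab X) (hF : UD F) (q : ℕ) :
    Subsingleton (EtCoh.H X F (q + 2)) := by
  let η := genericPoint X
  let φ := (EtCoh.pullPushAdj (X.fromSpecResidueField η)).unit.app F
  have hb := bijective_of_acyclic φ (fun i => (acyclic_ker_coker_of_nonclosed f φ ?_ i).1)
    (fun i => (acyclic_ker_coker_of_nonclosed f φ ?_ i).2) q
  · haveI : Subsingleton ↥((EtCoh.HF X (q + 2)).obj ((EtCoh.push (X.fromSpecResidueField η)).obj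
        ((EtCoh.pull (X.fromSpecResidueField η)).obj F))) := subsingleton_H_push_UD η _ (hF.pull _) (q + 1)
    exact @Function.Injective.subsingleton _ _ _ hb.1.injective ‹_›
  all_goals
    intro Ω _ _ ξ hc
    refine bijective_stalk_unit η ξ ?_ F
    exact ((isClosed_or_maximal hdim (ξ.base default)).resolve_left hc η ((genericPoint_spec X).specializes trivial)).symm

end Groth.L28.CurveCd
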