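import Groth.Agent.L28.CurveCd.GmPoint
import Groth.Agent.L28.CurveCd.Main

/-!
The map from the multiplicative group to the sum of its direct images from the non-closed points.
-/

set_option autoImplicit false
set_option linter.style.haveILetI false
set_option linter.unusedSectionVars false
set_option backward.isDefEq.respectTransparency.types false

universe u

open CategoryTheory CategoryTheory.Limits AlgebraicGeometry Opposite TopologicalSpace

namespace Groth.L28.CurveCd

variable {X : Scheme.{u}}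

/-- the direct images of the multiplicative groups of the non-closed points -/
noncomputable abbrev gmFam (X : Scheme.{u}) (x : {x : X // ¬ IsClosed ({x} : Set X)}) : EtCoh.Ab X :=
  (EtCoh.push (X.fromSpecResidueField x.1)).obj (EtCoh.Gm (Spec (X.residueField x.1)))

theorem isAdditive_HF (q : ℕ) : (EtCoh.HF X q).Additive := ⟨fun {A B} {a b} => by
  refine AddCommGrpCat.ext fun e => ?_
  show _ = (EtCoh.HF X q).map a e + (EtCoh.HF X q).map b e
  rw [Groth.L27.EtSite.HF_map_apply, Groth.L27.EtSite.HF_map_apply,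
    Groth.L27.EtSite.HF_map_apply, Abelian.Ext.mk₀_add, Abelian.Ext.comp_add]
  rfl⟩

variable [Fintype {x : X // ¬ IsClosed ({x} : Set X)}] [HasBiproduct (gmFam X)]

/-- the comparison map -/
noncomputable abbrev gmGen (X : Scheme.{u}) [Fintype {x : X // ¬ IsClosed ({x} : Set X)}]
    [HasBiproduct (gmFam X)] : EtCoh.Gm X ⟶ ⨁ (gmFam X) := biproduct.lift fun x => gmPoint x.1

/-- at a non-closed point only its own component matters -/
theorem isIso_stalk_π (hdim : topologicalKrullDim X ≤ 1) {Ω : Type u} [Field Ω] [IsSepClosed Ω]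
    (ξ : Spec (CommRingCat.of Ω) ⟶ X) (x₀ : {x : X // ¬ IsClosed ({x} : Set X)}) (hx₀ : ξ.base default = x₀.1) :
    IsIso ((EtCoh.stalk ξ).map (biproduct.π (gmFam X) x₀)) := by
  classical
  haveI : (EtCoh.stalk ξ).Additive :=
    haveI : PreservesColimitsOfSize.{0, 0} (EtCoh.stalk ξ) := inferInstance
    Functor.additive_of_preserves_binary_products _
  have hother : ∀ x, x ≠ x₀ → IsZero ((EtCoh.stalk ξ).obj (gmFam X x)) := fun x hne => by
    refine isZero_stalk_push_closure _ _ ξ ?_
    rw [X.range_fromSpecResidueField x.1, hx₀]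
    exact not_specializes hdim x₀.2 fun e => hne (Subtype.ext e.symm)
  have hπι : (EtCoh.stalk ξ).map (biproduct.π (gmFam X) x₀) ≫ (EtCoh.stalk ξ).map (biproduct.ι (gmFam X) x₀) =
      𝟙 _ := by
    rw [← Functor.map_comp, ← CategoryTheory.Functor.map_id, ← IsBilimit.total (biproduct.isBilimit (gmFam X)),
      Functor.map_sum, Finset.sum_eq_single x₀]
    · intro x _ hne
      rw [Functor.map_comp, (hother x hne).eq_of_tgt ((EtCoh.stalk ξ).map ((biproduct.bicone (gmFam X)).π x)) 0,
        zero_comp]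
    · exact fun h => absurd (Finset.mem_univ _) h
  exact ⟨(EtCoh.stalk ξ).map (biproduct.ι (gmFam X) x₀), hπι, by
    rw [← Functor.map_comp, biproduct.ι_π_self]
    exact CategoryTheory.Functor.map_id _ _⟩

/-- surjectivity at non-closed points, and the kernel is that of the component -/
theorem stalk_gmGen (hdim : topologicalKrullDim X ≤ 1) (x₀ : {x : X // ¬ IsClosed ({x} : Set X)}) {Ω : Type u}
    [Field Ω] [IsSepClosed Ω] (v : Spec (CommRingCat.of Ω) ⟶ Spec (X.residueField x₀.1)) :
    Function.Surjective ((EtCoh.stalk (v ≫ X.fromSpecResidueField x₀.1)).map (gmGen X)) ∧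
      ∀ z, (EtCoh.stalk (v ≫ X.fromSpecResidueField x₀.1)).map (gmGen X) z = 0 →
        (EtCoh.stalk (v ≫ X.fromSpecResidueField x₀.1)).map (gmPoint x₀.1) z = 0 := by
  let T := EtCoh.stalk (v ≫ X.fromSpecResidueField x₀.1)
  have hx₀ : (v ≫ X.fromSpecResidueField x₀.1).base default = x₀.1 :=
    (X.range_fromSpecResidueField x₀.1).le ⟨_, (Scheme.Hom.comp_apply v (X.fromSpecResidueField x₀.1) _).symm⟩
  haveI := isIso_stalk_π hdim (v ≫ X.fromSpecResidueField x₀.1) x₀ hx₀
  have h0 : gmGen X ≫ biproduct.π (gmFam X) x₀ = gmPoint x₀.1 := biproduct.lift_π _ _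
  have h1 : T.map (gmGen X) ≫ T.map (biproduct.π (gmFam X) x₀) = T.map (gmPoint x₀.1) := by
    rw [← T.map_comp, h0]
  have e : ∀ z, T.map (biproduct.π (gmFam X) x₀) (T.map (gmGen X) z) = T.map (gmPoint x₀.1) z := fun z =>
    (ConcreteCategory.comp_apply (T.map (gmGen X)) (T.map (biproduct.π (gmFam X) x₀)) z).symm.trans
      (ConcreteCategory.congr_hom h1 z)
  refine ⟨fun w => ?_, fun z hz => (e z).symm.trans ((congrArg (T.map (biproduct.π (gmFam X) x₀)) hz).trans (map_zero _))⟩
  obtain ⟨z, hz⟩ := surjective_stalk_gmPoint x₀.1 v (T.map (biproduct.π (gmFam X) x₀) w)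
  exact ⟨z, (ConcreteCategory.bijective_of_isIso (T.map (biproduct.π (gmFam X) x₀))).injective ((e z).trans hz)⟩

end Groth.L28.CurveCd
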