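import Groth.Agent.L28.CurveCd.PointPull
import Groth.Agent.L28.Divisor.Units
import Groth.Agent.L28.Divisor.Sky
import Groth.Agent.L23.QFDescent

/-!
The stalks of the comparison map from the multiplicative group to its direct image from a point.
-/

set_option autoImplicit false
set_option linter.style.haveILetI false
set_option linter.unusedSectionVars false
set_option backward.isDefEq.respectTransparency.types false

universe u

open CategoryTheory CategoryTheory.Limits AlgebraicGeometry Opposite IsLocalRing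
open Groth.L28.Divisor (mkU val val_inj)
open Groth.L28.Sky

namespace Groth.L28.CurveCd

theorem appTop_appLE {T' T Q : Scheme.{u}} (g : T' ⟶ T) (k : T ⟶ Q) (O : Q.Opens) (h : ⊤ ≤ k ⁻¹ᵁ O)
    (h' : ⊤ ≤ (g ≫ k) ⁻¹ᵁ O) (r : Γ(Q, O)) : g.appTop (k.appLE O ⊤ h r) = (g ≫ k).appLE O ⊤ h' r := by
  have e := Scheme.Hom.appLE_comp_appLE g k O ⊤ ⊤ h le_top
  rw [show g.appLE ⊤ ⊤ le_top = g.appTop by simp [Scheme.Hom.appLE]] at e
  exact congrArg (fun m => m.hom r) e

theorem appLE_congr_hom {T Q : Scheme.{u}} {k k' : T ⟶ Q} (e : k = k') (O : Q.Opens) (h : ⊤ ≤ k ⁻¹ᵁ O)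
    (h' : ⊤ ≤ k' ⁻¹ᵁ O) (r : Γ(Q, O)) : k.appLE O ⊤ h r = k'.appLE O ⊤ h' r := by
  subst e; rfl

variable {X : Scheme.{u}} (x : X) {Ω : Type u} [Field Ω] [IsSepClosed Ω]
  (v : Spec (CommRingCat.of Ω) ⟶ Spec (X.residueField x))

/-- the comparison map -/
noncomputable abbrev gmPoint : EtCoh.Gm X ⟶ (EtCoh.push (X.fromSpecResidueField x)).obj
    (EtCoh.Gm (Spec (X.residueField x))) := EtLim.GmPush (X.fromSpecResidueField x)

section Pre

variable {T : Scheme.{u}} (j : T ⟶ X) (v' : Spec (CommRingCat.of Ω) ⟶ T)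

/-- the point of the fibre -/
noncomputable def liftJ {V : X.Etale}
    (y : (Scheme.pointSmallEtale (v' ≫ j)).fiber.obj V) :
    (Scheme.pointSmallEtale v').fiber.obj ((EtCoh.bc j).obj V) :=
  Over.homMk (pullback.lift y.left v' (Over.w y)) (pullback.lift_snd _ _ _)

theorem liftJ_fst {V : X.Etale} (y : (Scheme.pointSmallEtale (v' ≫ j)).fiber.obj V) :
    (liftJ j v' y).left ≫ pullback.fst V.hom j = y.left :=
  pullback.lift_fst _ _ _

theorem appTop_eq_of_shrink {W P V₀ : Scheme.{u}} (p : P ⟶ V₀) (O : V₀.Opens) (r : Γ(V₀, O)) (E : P.Opens)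
    (b : Γ(P, ⊤)) (iO : E ≤ p ⁻¹ᵁ O)
    (hE : P.presheaf.map (homOfLE iO).op (p.app O r) = P.presheaf.map (homOfLE (le_top : E ≤ ⊤)).op b)
    (m : W ⟶ P) (hm : ∀ q, m q ∈ E) (k : W ⟶ (O : Scheme.{u})) (hk : k ≫ O.ι = m ≫ p)
    (hι : ⊤ ≤ O.ι ⁻¹ᵁ O) : k.appTop (O.ι.appLE O ⊤ hι r) = m.appTop b := by
  have hmE : ⊤ ≤ m ⁻¹ᵁ E := fun q _ => hm q
  have hmp : ⊤ ≤ (m ≫ p) ⁻¹ᵁ O := fun q _ => iO (hm q)
  have h1 : ⊤ ≤ (k ≫ O.ι) ⁻¹ᵁ O := fun q _ => (k q).2
  have hb : m.appLE E ⊤ hmE (P.presheaf.map (homOfLE (le_top : E ≤ ⊤)).op b) = m.appTop b := by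
    rw [← ConcreteCategory.comp_apply, Scheme.Hom.map_appLE,
      show m.appLE ⊤ ⊤ _ = m.appTop by simp [Scheme.Hom.appLE]]
  have hR : m.appLE E ⊤ hmE (P.presheaf.map (homOfLE iO).op (p.app O r)) = (m ≫ p).appLE O ⊤ hmp r := by
    rw [← ConcreteCategory.comp_apply (p.app O), ← ConcreteCategory.comp_apply]
    exact congrArg (fun k => k.hom r) (Scheme.Hom.appLE_comp_appLE m p O E ⊤ iO hmE)
  rw [appTop_appLE _ _ O hι h1, ← hb, ← hE, hR]
  exact appLE_congr_hom hk O h1 hmp r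

set_option maxHeartbeats 600000 in
theorem surjective_stalk_GmPush [IsPreimmersion j] :
    Function.Surjective ((EtCoh.stalk (v' ≫ j)).map (EtLim.GmPush j)) := by
  intro z
  let ξ := v' ≫ j
  obtain ⟨V, y, b, rfl⟩ := (Scheme.pointSmallEtale ξ).toPresheafFiber_jointly_surjective z
  let P : Scheme.{u} := pullback V.hom j
  let p : P ⟶ V.left := pullback.fst V.hom j
  haveI hpp : IsPreimmersion p := MorphismProperty.pullback_fst (P := @IsPreimmersion) V.hom j inferInstance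
  let z₀ : P := (liftJ j v' y).left.base (default : Spec (CommRingCat.of Ω))
  have hz₀ : p z₀ = y.left.base (default : Spec (CommRingCat.of Ω)) :=
    (Scheme.Hom.comp_apply _ _ _).symm.trans (congrArg (fun k : Spec (CommRingCat.of Ω) ⟶ V.left => k (default : Spec (CommRingCat.of Ω))) (liftJ_fst j v' y))
  let b' : Γ(P, ⊤) := val (W := P) b
  obtain ⟨r, hr⟩ := p.stalkMap_surjective z₀ (P.presheaf.germ ⊤ z₀ trivial b')
  have hru : IsUnit r := (isUnit_map_iff (p.stalkMap z₀).hom r).1 (by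
    rw [hr]; exact (Groth.L28.Divisor.isUnit_val (W := P) b).map _)
  obtain ⟨U1, hU1, r1, hr1⟩ := V.left.presheaf.exists_germ_eq r
  let O : V.left.Opens := V.left.basicOpen r1
  have hO : p z₀ ∈ O := (V.left.mem_basicOpen r1 (p z₀) hU1).2 (by rw [hr1]; exact hru)
  let r2 : Γ(V.left, O) := V.left.presheaf.map (homOfLE (V.left.basicOpen_le r1)).op r1
  have hr2 : IsUnit r2 := RingedSpace.isUnit_res_basicOpen V.left.toRingedSpace r1
  have he : P.presheaf.germ (p ⁻¹ᵁ O) z₀ hO (p.app O r2) = P.presheaf.germ ⊤ z₀ trivial b' := by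
    rw [← hr, ← hr1, ← TopCat.Presheaf.germ_res_apply V.left.presheaf (homOfLE (V.left.basicOpen_le r1)) _ hO r1]
    exact (Scheme.Hom.germ_stalkMap_apply p O z₀ hO r2).symm
  obtain ⟨E, hzE, iO, iT, hE⟩ := P.presheaf.germ_eq (U := p ⁻¹ᵁ O) (V := ⊤) z₀ hO trivial _ _ he
  have hι : ⊤ ≤ O.ι ⁻¹ᵁ O := O.ι_preimage_self.ge
  let a : Γ((O : Scheme.{u}), ⊤) := O.ι.appLE O ⊤ hι r2
  have ha : IsUnit a := hr2.map (O.ι.appLE O ⊤ hι).hom
  let hV : V.left ⟶ X := V.hom
  haveI : AlgebraicGeometry.Etale hV := V.prop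
  let V₁ : X.Etale := Scheme.Etale.mk (O.ι ≫ hV)
  let g₁ : V₁ ⟶ V := MorphismProperty.Over.homMk O.ι rfl
  haveI : IsOpenImmersion g₁.left := inferInstanceAs (IsOpenImmersion O.ι)
  let s : (EtCoh.Gm X).obj.obj (op V₁) := mkU (W := (O : Scheme.{u})) ha.unit
  obtain ⟨y₁, hy₁, -⟩ := exists_fiber_lift ξ g₁ y ⟨p z₀, hO⟩ hz₀
  let M₁ : ((EtCoh.bc j).obj V₁).left ⟶ P := ((EtCoh.bc j).map g₁).left
  have hM₁ : (liftJ j v' y₁).left ≫ M₁ = (liftJ j v' y).left := by
    refine pullback.hom_ext ?_ ?_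
    · exact (Category.assoc _ _ _).trans ((congrArg (_ ≫ ·) (EtCoh.isPullback_bc_map j g₁).w).trans
        ((Category.assoc _ _ _).symm.trans (((congrArg (· ≫ g₁.left) (liftJ_fst j v' y₁)).trans
          (congrArg (fun k => k.left) hy₁)).trans (liftJ_fst j v' y).symm)))
    · exact (Category.assoc _ _ _).trans ((congrArg (_ ≫ ·) (MorphismProperty.Over.w ((EtCoh.bc j).map g₁))).trans
        ((Over.w (liftJ j v' y₁)).trans (Over.w (liftJ j v' y)).symm))
  obtain ⟨V₂, g₂, y', hy', hrange⟩ := exists_shrink j v' V₁ (M₁ ⁻¹ᵁ E) (liftJ j v' y₁) (by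
    have hzz : M₁ ((liftJ j v' y₁).left (default : Spec (CommRingCat.of Ω))) = z₀ :=
      (Scheme.Hom.comp_apply _ _ _).symm.trans (congrArg (fun k : Spec (CommRingCat.of Ω) ⟶ P => k (default : Spec (CommRingCat.of Ω))) hM₁)
    show M₁ ((liftJ j v' y₁).left (default : Spec (CommRingCat.of Ω))) ∈ E
    rw [hzz]
    exact hzE)
  let M₂ : ((EtCoh.bc j).obj V₂).left ⟶ ((EtCoh.bc j).obj V₁).left := ((EtCoh.bc j).map g₂).left
  let y₂ : (Scheme.pointSmallEtale ξ).fiber.obj V₂ := Over.homMk (y'.left ≫ pullback.fst V₂.hom j)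
    ((Category.assoc _ _ _).trans ((congrArg (y'.left ≫ ·) pullback.condition).trans
      ((Category.assoc _ _ _).symm.trans (congrArg (· ≫ j) (Over.w y')))))
  have hy₂ : (Scheme.pointSmallEtale ξ).fiber.map g₂ y₂ = y₁ := Over.OverMorphism.ext (by
    show (y'.left ≫ pullback.fst V₂.hom j) ≫ g₂.left = y₁.left
    exact (Category.assoc _ _ _).trans ((congrArg (y'.left ≫ ·) (EtCoh.isPullback_bc_map j g₂).w.symm).trans
      ((Category.assoc _ _ _).symm.trans ((congrArg (· ≫ pullback.fst V₁.hom j) (congrArg (fun k => k.left) hy')).trans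
        (liftJ_fst j v' y₁)))))
  refine ⟨germ ξ V₁ y₁ s, ?_⟩
  have e₁ : y₁.left ≫ g₁.left = y.left := congrArg (fun k => k.left) hy₁
  have e₂ : y₂.left ≫ g₂.left = y₁.left := congrArg (fun k => k.left) hy₂
  have hy₂₁ : (Scheme.pointSmallEtale ξ).fiber.map (g₂ ≫ g₁) y₂ = y :=
    Over.OverMorphism.ext ((Category.assoc y₂.left g₂.left g₁.left).symm.trans ((congrArg (· ≫ g₁.left) e₂).trans e₁))
  refine (stalk_map_germ ξ (EtLim.GmPush j) V₁ y₁ s).trans ?_
  refine (congrArg (fun q => germ ξ V₁ q ((EtLim.GmPush j).hom.app (op V₁) s)) hy₂.symm).trans ?_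
  refine (germ_res ξ g₂ y₂ _).symm.trans ?_
  refine Eq.trans ?_ ((germ_res ξ (g₂ ≫ g₁) y₂ b).trans (congrArg (fun q => germ ξ V q b) hy₂₁))
  refine congrArg (germ ξ V₂ y₂) (val_inj (W := ((EtCoh.bc j).obj V₂).left) ?_)
  let M₂ : ((EtCoh.bc j).obj V₂).left ⟶ ((EtCoh.bc j).obj V₁).left := ((EtCoh.bc j).map g₂).left
  let m : ((EtCoh.bc j).obj V₂).left ⟶ P := ((EtCoh.bc j).map (g₂ ≫ g₁)).left
  let k₁ : ((EtCoh.bc j).obj V₁).left ⟶ (O : Scheme.{u}) := pullback.fst V₁.hom j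
  have hm : m = M₂ ≫ M₁ := congrArg (fun k => k.left) ((EtCoh.bc j).map_comp g₂ g₁)
  have hmE : ∀ q, m q ∈ E := fun q => hm ▸ hrange ⟨q, rfl⟩
  have hk : (M₂ ≫ k₁) ≫ O.ι = m ≫ p :=
    (Category.assoc M₂ k₁ O.ι).trans ((congrArg (M₂ ≫ ·) (EtCoh.isPullback_bc_map j g₁).w.symm).trans
      ((Category.assoc M₂ M₁ p).symm.trans (congrArg (· ≫ p) hm.symm)))
  have key := appTop_eq_of_shrink p O r2 E b' iO.le hE m hmE (M₂ ≫ k₁) hk hι
  exact key

end Pre

/-- the point of the fibre -/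
noncomputable abbrev liftPt {V : X.Etale}
    (y : (Scheme.pointSmallEtale (v ≫ X.fromSpecResidueField x)).fiber.obj V) :
    (Scheme.pointSmallEtale v).fiber.obj ((EtCoh.bc (X.fromSpecResidueField x)).obj V) :=
  liftJ (X.fromSpecResidueField x) v y

theorem liftPt_fst {V : X.Etale} (y : (Scheme.pointSmallEtale (v ≫ X.fromSpecResidueField x)).fiber.obj V) :
    (liftPt x v y).left ≫ pullback.fst V.hom (X.fromSpecResidueField x) = y.left :=
  pullback.lift_fst _ _ _

theorem surjective_stalk_gmPoint :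
    Function.Surjective ((EtCoh.stalk (v ≫ X.fromSpecResidueField x)).map (gmPoint x)) :=
  surjective_stalk_GmPush (X.fromSpecResidueField x) v

/-- the only generalisation of a point over a maximal point -/
theorem eq_of_specializes (hmax : ∀ y : X, y ⤳ x → y = x) {W : X.Etale} {w w' : W.left} (hw : W.hom.base w = x)
    (h : w' ⤳ w) : w' = w := by
  let f : W.left ⟶ X := W.hom
  haveI : AlgebraicGeometry.Etale f := W.prop
  have he : f w' = f w := by
    refine (hmax _ ?_).trans hw.symm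
    exact hw ▸ h.map f.continuous
  haveI : LocallyQuasiFinite f := inferInstance
  have hd : DiscreteTopology ↥(f.fiber (f w)) := inferInstance
  obtain ⟨a, ha⟩ : w ∈ Set.range (f.fiberι (f w)) := by rw [Scheme.Hom.range_fiberι]; rfl
  obtain ⟨b, hb⟩ : w' ∈ Set.range (f.fiberι (f w)) := by rw [Scheme.Hom.range_fiberι]; exact he
  have hba : b ⤳ a := ((f.fiberι (f w)).isEmbedding.isInducing.specializes_iff).1 (by rw [ha, hb]; exact h)
  exact hb.symm.trans ((congrArg (f.fiberι (f w)) hba.eq).trans ha)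

/-- sections killed on the point are locally unipotent -/
theorem exists_unipotent (hmax : ∀ y : X, y ⤳ x → y = x) {V : X.Etale}
    (y : (Scheme.pointSmallEtale (v ≫ X.fromSpecResidueField x)).fiber.obj V) (s : (EtCoh.Gm X).obj.obj (op V))
    (h : (EtCoh.stalk (v ≫ X.fromSpecResidueField x)).map (gmPoint x) (germ _ V y s) = 0) :
    ∃ (W : X.Etale) (g : W ⟶ V) (y' : (Scheme.pointSmallEtale (v ≫ X.fromSpecResidueField x)).fiber.obj W),
      (Scheme.pointSmallEtale (v ≫ X.fromSpecResidueField x)).fiber.map g y' = y ∧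
        IsNilpotent (val (W := W.left) ((EtCoh.Gm X).obj.map g.op s) - 1) := by
  let j := X.fromSpecResidueField x
  let ξ := v ≫ j
  rw [stalk_map_germ] at h
  obtain ⟨W, g, yW, hyW, he⟩ := ((Scheme.pointSmallEtale ξ).toPresheafFiber_eq_iff' _ _ _ _).1
    (h.trans (map_zero _).symm)
  let sW := (EtCoh.Gm X).obj.map g.op s
  have he' : (gmPoint x).hom.app (op W) sW = 0 :=
    (NatTrans.naturality_apply (gmPoint x).hom g.op s).trans (he.trans (map_zero _))
  let P : Scheme.{u} := pullback W.hom j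
  let p : P ⟶ W.left := pullback.fst W.hom j
  have he1 : p.appTop (val (W := W.left) sW) = 1 := (congrArg (val (W := P)) he' :)
  let w : W.left := yW.left.base (default : Spec (CommRingCat.of Ω))
  let z₀ : P := (liftPt x v yW).left.base (default : Spec (CommRingCat.of Ω))
  have hz₀ : p z₀ = w :=
    (Scheme.Hom.comp_apply _ _ _).symm.trans (congrArg (fun k : Spec (CommRingCat.of Ω) ⟶ W.left => k (default : Spec (CommRingCat.of Ω))) (liftPt_fst x v yW))
  let n : Γ(W.left, ⊤) := val (W := W.left) sW - 1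
  have hn0 : p.stalkMap z₀ (W.left.presheaf.germ ⊤ (p z₀) trivial n) = 0 := by
    rw [Scheme.Hom.germ_stalkMap_apply]
    show P.presheaf.germ (p ⁻¹ᵁ ⊤) z₀ _ (p.appTop n) = 0
    rw [show p.appTop n = 0 from by rw [map_sub, he1, map_one, sub_self]]
    exact map_zero _
  have hnil : IsNilpotent (W.left.presheaf.germ ⊤ (p z₀) trivial n) := by
    rw [nilpotent_iff_mem_prime]
    intro q hq
    have hgen : W.left.fromSpecStalk (p z₀) ⟨q, hq⟩ ⤳ p z₀ := by
      have hmem : W.left.fromSpecStalk (p z₀) ⟨q, hq⟩ ∈ Set.range (W.left.fromSpecStalk (p z₀)) := ⟨_, rfl⟩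
      rwa [Scheme.range_fromSpecStalk] at hmem
    have hwx : W.hom.base (p z₀) = x := by
      rw [hz₀]
      refine (Groth.L27.EtSite.fiber_apply yW).trans ?_
      exact (X.range_fromSpecResidueField x).le ⟨_, (Scheme.Hom.comp_apply v j _).symm⟩
    have hcl : (⟨q, hq⟩ : PrimeSpectrum (W.left.presheaf.stalk (p z₀))) = closedPoint _ :=
      (W.left.fromSpecStalk (p z₀)).isEmbedding.injective
        ((eq_of_specializes x hmax hwx hgen).trans Scheme.fromSpecStalk_closedPoint.symm)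
    have hq' : q = maximalIdeal _ := congrArg PrimeSpectrum.asIdeal hcl
    rw [hq']
    refine (mem_maximalIdeal _).2 fun hu => ?_
    exact not_isUnit_zero (hn0 ▸ hu.map (p.stalkMap z₀).hom)
  obtain ⟨N, hN⟩ := hnil
  rw [← map_pow] at hN
  obtain ⟨O, hO, hOeq⟩ := Groth.L28.Divisor.exists_open_eq (p z₀) (hN.trans (map_zero _).symm)
  let hW : W.left ⟶ X := W.hom
  haveI : AlgebraicGeometry.Etale hW := W.prop
  let W' : X.Etale := Scheme.Etale.mk (O.ι ≫ hW)
  let g' : W' ⟶ W := MorphismProperty.Over.homMk O.ι rfl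
  haveI : IsOpenImmersion g'.left := inferInstanceAs (IsOpenImmersion O.ι)
  obtain ⟨y', hy', -⟩ := exists_fiber_lift ξ g' yW ⟨p z₀, hO⟩ hz₀
  refine ⟨W', g' ≫ g, y', ?_, N, ?_⟩
  · rw [Functor.map_comp_apply, hy']
    exact hyW
  · rw [op_comp, Functor.map_comp_apply]
    show (O.ι.appTop (val (W := W.left) sW) - 1) ^ N = 0
    rw [← map_one O.ι.appTop.hom, ← map_sub, ← map_pow]
    refine (Groth.L28.Divisor.ι_appTop_eq O _ 0 ?_).trans (map_zero _)
    exact hOeq.trans (map_zero _)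

end Groth.L28.CurveCd
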