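import Groth.Agent.L28.CurveCd.GmPoint
import Mathlib.AlgebraicGeometry.Morphisms.Flat
import Mathlib.AlgebraicGeometry.Stalk
import Mathlib.RingTheory.Flat.FaithfullyFlat.Algebra

/-!
The multiplicative group near a maximal point is that of the local ring.
-/

set_option autoImplicit false
set_option linter.style.haveILetI false
set_option linter.unusedSectionVars false
set_option backward.isDefEq.respectTransparency.types false

universe u

open CategoryTheory CategoryTheory.Limits AlgebraicGeometry Opposite IsLocalRing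
open Groth.L28.Divisor (mkU val val_inj)
open Groth.L28.Sky

namespace Groth.L28.CurveCd

theorem injective_stalkMap_of_flat {T Y : Scheme.{u}} (p : T ⟶ Y) [Flat p] (z : T) :
    Function.Injective (p.stalkMap z).hom := by
  have hf : (p.stalkMap z).hom.Flat := Flat.stalkMap p z
  algebraize [(p.stalkMap z).hom]
  haveI : IsLocalHom (algebraMap (Y.presheaf.stalk (p z)) (T.presheaf.stalk z)) :=
    inferInstanceAs (IsLocalHom (p.stalkMap z).hom)
  haveI : Module.Flat (Y.presheaf.stalk (p z)) (T.presheaf.stalk z) := hf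
  haveI : Module.FaithfullyFlat (Y.presheaf.stalk (p z)) (T.presheaf.stalk z) :=
    Module.FaithfullyFlat.of_flat_of_isLocalHom
  exact FaithfulSMul.algebraMap_injective (Y.presheaf.stalk (p z)) (T.presheaf.stalk z)

theorem flatFromSpecStalk {X : Scheme.{u}} (x : X) : Flat (X.fromSpecStalk x) := by
  obtain ⟨_, ⟨(W : X.Opens), hW, rfl⟩, hxW, -⟩ :=
    X.isBasis_affineOpens.exists_subset_of_mem_open (Set.mem_univ x) isOpen_univ
  have hW' : IsAffineOpen W := hW
  rw [← hW'.fromSpecStalk_eq_fromSpecStalk hxW]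
  letI := X.presheaf.algebra_section_stalk ⟨x, hxW⟩
  have := hW'.isLocalization_stalk ⟨x, hxW⟩
  have : Flat (Spec.map (X.presheaf.germ W x hxW)) :=
    (HasRingHomProperty.Spec_iff (P := @Flat)).2 (RingHom.flat_algebraMap_iff.2
      (IsLocalization.flat _ (hW'.primeIdealOf ⟨x, hxW⟩).asIdeal.primeCompl))
  exact inferInstanceAs (Flat (Spec.map _ ≫ hW'.fromSpec))

variable {X T : Scheme.{u}} (j : T ⟶ X) {Ω : Type u} [Field Ω] [IsSepClosed Ω]
  (v : Spec (CommRingCat.of Ω) ⟶ T)

theorem injective_stalk_GmPush [Flat j] : Function.Injective ((EtCoh.stalk (v ≫ j)).map (EtLim.GmPush j)) := by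
  rw [injective_iff_map_eq_zero]
  intro z hz
  let ξ := v ≫ j
  obtain ⟨V, y, s, rfl⟩ := (Scheme.pointSmallEtale ξ).toPresheafFiber_jointly_surjective z
  have h := (stalk_map_germ ξ (EtLim.GmPush j) V y s).symm.trans hz
  obtain ⟨W, g, yW, hyW, he⟩ := ((Scheme.pointSmallEtale ξ).toPresheafFiber_eq_iff' _ _ _ _).1
    (h.trans (map_zero _).symm)
  let sW := (EtCoh.Gm X).obj.map g.op s
  have he' : (EtLim.GmPush j).hom.app (op W) sW = 0 :=
    (NatTrans.naturality_apply (EtLim.GmPush j).hom g.op s).trans (he.trans (map_zero _))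
  let P : Scheme.{u} := pullback W.hom j
  let p : P ⟶ W.left := pullback.fst W.hom j
  haveI : Flat p := inferInstanceAs (Flat (pullback.fst W.hom j))
  have he1 : p.appTop (val (W := W.left) sW) = 1 := (congrArg (val (W := P)) he' :)
  let z₀ : P := (liftJ j v yW).left.base (default : Spec (CommRingCat.of Ω))
  have hz₀ : p z₀ = yW.left.base (default : Spec (CommRingCat.of Ω)) :=
    (Scheme.Hom.comp_apply _ _ _).symm.trans (congrArg (fun k : Spec (CommRingCat.of Ω) ⟶ W.left =>
      k (default : Spec (CommRingCat.of Ω))) (liftJ_fst j v yW))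
  let n : Γ(W.left, ⊤) := val (W := W.left) sW - 1
  have hn0 : W.left.presheaf.germ ⊤ (p z₀) trivial n = 0 := by
    refine injective_stalkMap_of_flat p z₀ ?_
    rw [map_zero, Scheme.Hom.germ_stalkMap_apply]
    show P.presheaf.germ (p ⁻¹ᵁ ⊤) z₀ _ (p.appTop n) = 0
    rw [show p.appTop n = 0 from by rw [map_sub, he1, map_one, sub_self]]
    exact map_zero _
  obtain ⟨O, hO, hOeq⟩ := Groth.L28.Divisor.exists_open_eq (p z₀) (hn0.trans (map_zero _).symm)
  let hW : W.left ⟶ X := W.hom
  haveI : AlgebraicGeometry.Etale hW := W.prop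
  let W' : X.Etale := Scheme.Etale.mk (O.ι ≫ hW)
  let g' : W' ⟶ W := MorphismProperty.Over.homMk O.ι rfl
  haveI : IsOpenImmersion g'.left := inferInstanceAs (IsOpenImmersion O.ι)
  obtain ⟨y', hy', -⟩ := exists_fiber_lift ξ g' yW ⟨p z₀, hO⟩ hz₀
  have hs : (EtCoh.Gm X).obj.map g'.op sW = 0 := by
    refine val_inj (W := W'.left) ?_
    show O.ι.appTop (val (W := W.left) sW) = 1
    refine sub_eq_zero.1 ?_
    rw [← map_one O.ι.appTop.hom, ← map_sub]
    refine (Groth.L28.Divisor.ι_appTop_eq O n 0 ?_).trans (map_zero _)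
    exact hOeq.trans (map_zero _)
  refine (congrArg (fun q => germ ξ V q s) hyW.symm).trans ?_
  refine (germ_res ξ g yW s).symm.trans ?_
  refine (congrArg (fun q => germ ξ W q sW) hy'.symm).trans ?_
  refine (germ_res ξ g' y' sW).symm.trans ?_
  exact (congrArg (germ ξ W' y') hs).trans (map_zero _)

section Max

variable (x : X) (hmax : ∀ y : X, y ⤳ x → y = x)

include hmax in
theorem range_fromSpecStalk_of_max : Set.range (X.fromSpecStalk x) = {x} := by
  rw [Scheme.range_fromSpecStalk]
  exact Set.eq_singleton_iff_unique_mem.2 ⟨specializes_rfl, hmax⟩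

include hmax in
theorem subsingleton_spec_stalk : Subsingleton (Spec (X.presheaf.stalk x)) := ⟨fun a b => by
  refine (X.fromSpecStalk x).isEmbedding.injective ?_
  have ha := (range_fromSpecStalk_of_max x hmax).le ⟨a, rfl⟩
  have hb := (range_fromSpecStalk_of_max x hmax).le ⟨b, rfl⟩
  exact ha.trans hb.symm⟩

include hmax in
theorem isAffineHom_fromSpecStalk : IsAffineHom (X.fromSpecStalk x) := ⟨fun W _ => by
  haveI := subsingleton_spec_stalk x hmax
  rcases isEmpty_or_nonempty (X.fromSpecStalk x ⁻¹ᵁ W).toScheme with h | ⟨⟨p, hp⟩⟩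
  · show IsAffine _
    infer_instance
  · rw [show X.fromSpecStalk x ⁻¹ᵁ W = ⊤ from TopologicalSpace.Opens.ext (Set.eq_univ_of_forall fun q =>
      Subsingleton.elim (α := Spec (X.presheaf.stalk x)) p q ▸ hp)]
    exact isAffineOpen_top _⟩

theorem bijective_stalk_fromSpecStalk (w : Spec (CommRingCat.of Ω) ⟶ Spec (X.presheaf.stalk x)) :
    Function.Bijective ((EtCoh.stalk (w ≫ X.fromSpecStalk x)).map (EtLim.GmPush (X.fromSpecStalk x))) :=
  haveI := flatFromSpecStalk x
  ⟨injective_stalk_GmPush _ w, surjective_stalk_GmPush _ w⟩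

end Max

end Groth.L28.CurveCd
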