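import Mathlib.AlgebraicGeometry.Properties
import Mathlib.Topology.KrullDimension

/-!
Points of one-dimensional schemes are closed or maximal.
-/

set_option autoImplicit false
universe u

open TopologicalSpace AlgebraicGeometry

namespace Groth.L28.CurveCd

/-- the closure of a point as an irreducible closed set -/
def cl {X : Type u} [TopologicalSpace X] (x : X) : IrreducibleCloseds X :=
  ⟨closure {x}, isIrreducible_singleton.closure, isClosed_closure⟩

theorem cl_lt_cl {X : Type u} [TopologicalSpace X] [T0Space X] {x y : X} (h : y ⤳ x) (hne : x ≠ y) : cl x < cl y := by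
  refine lt_of_le_of_ne (show closure ({x} : Set X) ⊆ closure {y} from specializes_iff_closure_subset.1 h) fun e => ?_
  have e' : closure ({x} : Set X) = closure {y} := congrArg (fun c : IrreducibleCloseds X => (c : Set X)) e
  exact hne ((specializes_iff_closure_subset.2 e'.ge).antisymm h).eq

theorem isClosed_or_maximal {X : Type u} [TopologicalSpace X] [T0Space X] (hdim : topologicalKrullDim X ≤ 1) (x : X) :
    IsClosed ({x} : Set X) ∨ ∀ y : X, y ⤳ x → y = x := by
  by_contra hcon
  rw [not_or] at hcon
  obtain ⟨hnc, hnm⟩ := hcon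
  push Not at hnm
  obtain ⟨y, hy, hyx⟩ := hnm
  obtain ⟨z, hz, hzx⟩ : ∃ z ∈ closure ({x} : Set X), z ≠ x := by
    by_contra hall
    push Not at hall
    exact hnc (closure_subset_iff_isClosed.1 fun z hz => hall z hz)
  let p : LTSeries (IrreducibleCloseds X) := LTSeries.mk 2 ![cl z, cl x, cl y]
    (Fin.strictMono_iff_lt_succ.2 fun i => by
      fin_cases i
      · exact cl_lt_cl (specializes_iff_mem_closure.2 hz) hzx
      · exact cl_lt_cl hy (Ne.symm hyx))
  have hp : ((p.length : ℕ) : WithBot ℕ∞) ≤ 1 := (Order.LTSeries.length_le_krullDim p).trans hdim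
  have h2 : p.length = 2 := rfl
  rw [h2] at hp
  exact absurd hp (by decide)

end Groth.L28.CurveCd
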