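import Groth.Agent.L28.CurveCd.Divisible
import Groth.Agent.L28.Supp.Generic
import Groth.Agent.L27.Colim.Etale

/-!
A sheaf supported in a specialisation-closed set is the union of its parts supported on closed subsets of it.
-/

set_option autoImplicit false
set_option linter.style.haveILetI false
set_option linter.unusedSectionVars false
set_option backward.isDefEq.respectTransparency.types false

universe u

open CategoryTheory CategoryTheory.Limits AlgebraicGeometry Opposite TopologicalSpace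
open Groth.L27.Supp (ZeroAt)

namespace Groth.L28.CurveCd

variable {X : Scheme.{u}}

/-- sections with support off an open subset -/
theorem exists_secι_eq_iff (W : X.Opens) (F : EtCoh.Ab X) (V : X.Etale) (s : F.obj.obj (op V)) :
    (∃ t, ((Groth.L28.Supp.secι W.ι).app F).hom.app (op V) t = s) ↔
      ∀ v : V.left, V.hom.base v ∈ W → ZeroAt F s v := by
  have hι : IsOpenImmersion W.ι := inferInstance
  let j := W.ι
  haveI := Groth.L27.ExtZero.jCont j
  refine (Groth.L28.Supp.exists_secι_iff j F V s).trans ⟨fun h v hv => ?_, fun h => ?_⟩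
  · obtain ⟨p, hp1, -⟩ := Scheme.Pullback.exists_preimage_pullback (f := V.hom) (g := j) v ⟨V.hom.base v, hv⟩ rfl
    exact ⟨_, Groth.L27.ExtZero.epsE j V, p, hp1, h⟩
  · refine Groth.L27.Supp.eq_of_locally F _ _ fun p => ?_
    obtain ⟨T, g, t, ht, h0⟩ := ZeroAt.map F (Groth.L27.ExtZero.epsE j V) (h ((Groth.L27.ExtZero.epsE j V).left p) (by
      have e := MorphismProperty.Over.w (Groth.L27.ExtZero.epsE j V)
      have e' : V.hom.base ((Groth.L27.ExtZero.epsE j V).left p) = j (pullback.snd V.hom j p) :=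
        (Scheme.Hom.comp_apply _ _ _).symm.trans ((congrArg (fun m : _ ⟶ X => m p) e).trans (Scheme.Hom.comp_apply _ _ _))
      rw [e']
      exact (pullback.snd V.hom j p).2))
    exact ⟨T, g, t, ht, h0.trans (map_zero _).symm⟩

theorem secι_unit_eq_zero {W W' : X.Opens} (h : W' ≤ W) (F : EtCoh.Ab X) :
    (Groth.L28.Supp.secι W.ι).app F ≫ EtDual.unitApp W'.ι F = 0 := by
  refine ObjectProperty.hom_ext _ (NatTrans.ext (funext fun V => ?_))
  refine ConcreteCategory.hom_ext _ _ fun t => ?_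
  obtain ⟨t', ht'⟩ := (exists_secι_eq_iff W' F V.unop (((Groth.L28.Supp.secι W.ι).app F).hom.app V t)).2
    fun v hv => (exists_secι_eq_iff W F V.unop _).1 ⟨t, rfl⟩ v (h hv)
  refine Eq.trans (congrArg ((EtDual.unitApp W'.ι F).hom.app V) ht'.symm) ?_
  exact ConcreteCategory.congr_hom (congrArg (fun k => k.hom.app V) (kernel.condition (EtDual.unitApp W'.ι F))) t'

/-- opens whose complement lies in a given set -/
def Big (P : Set X) : Type u := {W : X.Opens // (W : Set X)ᶜ ⊆ P}ᵒᵈ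

/-- the open subset -/
def Big.opens {P : Set X} (a : Big P) : X.Opens := (OrderDual.ofDual a : {W : X.Opens // (W : Set X)ᶜ ⊆ P}).1

instance (P : Set X) : PartialOrder (Big P) := inferInstanceAs (PartialOrder {W : X.Opens // (W : Set X)ᶜ ⊆ P}ᵒᵈ)

theorem Big.opens_le {P : Set X} {a b : Big P} (h : a ≤ b) : b.opens ≤ a.opens := h

instance (P : Set X) : IsDirectedOrder (Big P) :=
  ⟨fun a b => ⟨OrderDual.toDual ⟨a.opens ⊓ b.opens, by
      rw [Opens.coe_inf, Set.compl_inter]
      exact Set.union_subset (OrderDual.ofDual a : {W : X.Opens // (W : Set X)ᶜ ⊆ P}).2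
        (OrderDual.ofDual b : {W : X.Opens // (W : Set X)ᶜ ⊆ P}).2⟩,
    (inf_le_left : a.opens ⊓ b.opens ≤ a.opens), (inf_le_right : a.opens ⊓ b.opens ≤ b.opens)⟩⟩

instance (P : Set X) : Nonempty (Big P) := ⟨OrderDual.toDual ⟨⊤, by simp⟩⟩

/-- the subsheaves -/
noncomputable def secDiag (P : Set X) (F : EtCoh.Ab X) : Big P ⥤ EtCoh.Ab X where
  obj a := (EtDual.secSupp a.opens.ι).obj F
  map {a b} h := kernel.lift (EtDual.unitApp b.opens.ι F) ((Groth.L28.Supp.secι a.opens.ι).app F)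
    (secι_unit_eq_zero (Big.opens_le (leOfHom h)) F)
  map_id a := equalizer.hom_ext ((kernel.lift_ι _ _ _).trans (Category.id_comp _).symm)
  map_comp {a b c} f g := equalizer.hom_ext ((kernel.lift_ι _ _ _).trans
    ((kernel.lift_ι (EtDual.unitApp b.opens.ι F) _ (secι_unit_eq_zero (Big.opens_le (leOfHom f)) F)).symm.trans
      (((congrArg (_ ≫ ·) (kernel.lift_ι (EtDual.unitApp c.opens.ι F) ((Groth.L28.Supp.secι b.opens.ι).app F)
        (secι_unit_eq_zero (Big.opens_le (leOfHom g)) F)).symm).trans (Category.assoc _ _ _).symm))))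

/-- the inclusions -/
noncomputable def secCocone (P : Set X) (F : EtCoh.Ab X) : Cocone (secDiag P F) where
  pt := F
  ι :=
    { app := fun a => (Groth.L28.Supp.secι a.opens.ι).app F
      naturality := fun a b h => (kernel.lift_ι _ _ _).trans (Category.comp_id _).symm }

theorem exists_secι_of_supp [IsLocallyNoetherian X] (P : Set X) (hP : ∀ a b : X, a ⤳ b → a ∈ P → b ∈ P)
    (F : EtCoh.Ab X) (hsupp : EtPBC.supp F ⊆ P) (U : X.Etale) (s : F.obj.obj (op U)) (u : U.left) :
    ∃ (V : X.Etale) (g : V ⟶ U) (v : V.left) (a : Big P), g.left.base v = u ∧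
      ∀ w : V.left, V.hom.base w ∈ a.opens → ZeroAt F (F.obj.map g.op s) w := by
  let hU : U.left ⟶ X := U.hom
  haveI : AlgebraicGeometry.Etale hU := U.prop
  haveI : IsLocallyNoetherian U.left := LocallyOfFiniteType.isLocallyNoetherian hU
  obtain ⟨_, ⟨(O : U.left.Opens), hO, rfl⟩, huO, -⟩ :=
    U.left.isBasis_affineOpens.exists_subset_of_mem_open (Set.mem_univ u) isOpen_univ
  let V : X.Etale := Scheme.Etale.mk (O.ι ≫ hU)
  let g : V ⟶ U := MorphismProperty.Over.homMk O.ι rfl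
  haveI : IsAffine V.left := hO
  haveI : IsLocallyNoetherian V.left := inferInstanceAs (IsLocallyNoetherian (O : Scheme.{u}))
  haveI : AlgebraicGeometry.IsNoetherian V.left := {}
  let t := F.obj.map g.op s
  let S : Closeds V.left := ⟨{w | ZeroAt F t w}ᶜ, (Groth.L28.Supp.isOpen_zeroAt F V t).isClosed_compl⟩
  obtain ⟨𝒮, hfin, hirr, hS⟩ : ∃ 𝒮 : Set (Set V.left), 𝒮.Finite ∧ (∀ T ∈ 𝒮, IsClosed T ∧ IsIrreducible T) ∧
      (S : Set V.left) = ⋃₀ 𝒮 := by
    obtain ⟨𝒮, h1, h2, h3, h4⟩ := NoetherianSpace.exists_finite_set_isClosed_irreducible S.isClosed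
    exact ⟨𝒮, h1, fun T hT => ⟨h2 T hT, h3 T hT⟩, h4⟩
  choose η hη using fun T : 𝒮 => QuasiSober.sober (hirr T.1 T.2).2 (hirr T.1 T.2).1
  haveI : Finite 𝒮 := hfin.to_subtype
  let h : V.left ⟶ X := V.hom
  let Z : Set X := ⋃ T : 𝒮, closure {h (η T)}
  have hZ : IsClosed Z := isClosed_iUnion_of_finite fun _ => isClosed_closure
  have hZP : Z ⊆ P := by
    refine Set.iUnion_subset fun T z hz => hP (h (η T)) z (specializes_iff_mem_closure.2 hz) (hsupp ?_)
    by_contra hns
    have hmem : η T ∈ (S : Set V.left) := hS.symm.le ⟨T.1, T.2, (hη T).mem⟩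
    exact hmem (Groth.L28.Supp.zeroAt_of_stalk_zero F _ hns V t (η T) rfl)
  refine ⟨V, g, ⟨u, huO⟩, OrderDual.toDual ⟨⟨Zᶜ, hZ.isOpen_compl⟩, by simpa using hZP⟩, rfl, fun w hw => ?_⟩
  by_contra hns
  obtain ⟨T, hT, hwT⟩ := hS.le (show w ∈ (S : Set V.left) from hns)
  refine hw (Set.mem_iUnion.2 ⟨⟨T, hT⟩, ?_⟩)
  exact specializes_iff_mem_closure.1 (((hη ⟨T, hT⟩).specializes hwT).map h.continuous)

theorem isIso_desc_secCocone [IsLocallyNoetherian X] (P : Set X) (hP : ∀ a b : X, a ⤳ b → a ∈ P → b ∈ P)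
    (F : EtCoh.Ab X) (hsupp : EtPBC.supp F ⊆ P) : IsIso (colimit.desc _ (secCocone P F)) := by
  let d := colimit.desc (secDiag P F) (secCocone P F)
  have hι : ∀ (a : Big P) (V : X.Etale) (y : ((secDiag P F).obj a).obj.obj (op V)),
      d.hom.app (op V) ((colimit.ι (secDiag P F) a).hom.app (op V) y) =
        ((Groth.L28.Supp.secι a.opens.ι).app F).hom.app (op V) y :=
    fun a V y => congr($(colimit.ι_desc (secCocone P F) a).hom.app (op V) y)
  have h1 : Sheaf.IsLocallyInjective d := by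
    refine ⟨fun {U} x y h => (Groth.L27.EtSite.mem_topology_iff _).2 fun u => ?_⟩
    obtain ⟨R, hR, hR'⟩ := (Groth.L27.Colim.locally_rep (colimit.isColimit (secDiag P F)) U.unop).1 (x - y)
    obtain ⟨V, g, v, hg, hv⟩ := (Groth.L27.EtSite.mem_topology_iff R).1 hR u
    obtain ⟨a, z, hz⟩ := hR' V g hg
    refine ⟨V, g, v, ?_, hv⟩
    show (colimit (secDiag P F)).obj.map g.op x = (colimit (secDiag P F)).obj.map g.op y
    rw [← sub_eq_zero, ← map_sub]
    refine hz.symm.trans ?_
    have hz0 : z = 0 := Groth.L28.Supp.injective_secι a.opens.ι F V (by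
      refine Eq.trans ?_ (map_zero (((Groth.L28.Supp.secι a.opens.ι).app F).hom.app (op V)).hom).symm
      refine (hι a V z).symm.trans ?_
      refine (congrArg (d.hom.app (op V)) hz).trans ?_
      refine (NatTrans.naturality_apply d.hom g.op (x - y)).trans ?_
      rw [map_sub (d.hom.app (op U.unop)).hom x y]
      exact (congrArg (F.obj.map g.op) (sub_eq_zero.2 h)).trans (map_zero _))
    rw [hz0]
    exact map_zero ((colimit.ι (secDiag P F) a).hom.app (op V)).hom
  have h2 : Sheaf.IsLocallySurjective d := by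
    refine ⟨fun {U} s => (Groth.L27.EtSite.mem_topology_iff _).2 fun u => ?_⟩
    obtain ⟨V, g, v, a, hv, hz⟩ := exists_secι_of_supp P hP F hsupp U s u
    obtain ⟨t, ht⟩ := (exists_secι_eq_iff a.opens F V _).2 hz
    exact ⟨V, g, v, ⟨(colimit.ι (secDiag P F) a).hom.app (op V) t, (hι a V t).trans ht⟩, hv⟩
  exact (Sheaf.isLocallyBijective_iff_isIso d).1 ⟨h1, h2⟩

theorem subsingleton_H_of_supp [AlgebraicGeometry.IsNoetherian X] (P : Set X)
    (hP : ∀ a b : X, a ⤳ b → a ∈ P → b ∈ P) (F : EtCoh.Ab X) (hsupp : EtPBC.supp F ⊆ P) (q : ℕ)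
    (h : ∀ W : X.Opens, (W : Set X)ᶜ ⊆ P → Subsingleton (EtCoh.H X ((EtDual.secSupp W.ι).obj F) q)) :
    Subsingleton (EtCoh.H X F q) := by
  haveI := Groth.L27.Colim.preservesColimitsOfShape_HF X q (Big P)
  haveI : HasColimitsOfSize.{u, u} (EtCoh.Ab X) := hasColimitsOfSizeShrink.{u, u, u + 1, u + 1} _
  have hiso := isIso_desc_secCocone P hP F hsupp
  refine subsingleton_H_of_iso (@asIso _ _ _ _ _ hiso) q (subsingleton_of_forall_eq 0 fun z => ?_)
  obtain ⟨a, w, rfl⟩ := Concrete.isColimit_exists_rep _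
    (isColimitOfPreserves (EtCoh.HF X q) (colimit.isColimit (secDiag P F))) z
  rw [@Subsingleton.elim (EtCoh.H X ((EtDual.secSupp a.opens.ι).obj F) q) (h _ (OrderDual.ofDual a : {W : X.Opens // (W : Set X)ᶜ ⊆ P}).2) w 0]
  exact map_zero (((EtCoh.HF X q).mapCocone (colimit.cocone (secDiag P F))).ι.app a).hom

end Groth.L28.CurveCd
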